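import Cfsg.Agent.Lib.Compute.CosetData.FischerSolvable
import Cfsg.Agent.Lib.Compute.CosetSub
import Cfsg.Agent.Lib.Compute.CosetBound

/-!
The orders of the groups presented by the chain of tables, and two word problems in the plane group.
-/

set_option autoImplicit false
set_option maxRecDepth 100000

namespace Cfsg.Agent.FischerSolvable

open Cfsg.Agent Cfsg.Agent.CosetCert
open Cfsg.Agent.CosetData.FischerSolvable

variable {G : Type*} [Group G]

/-- The generators given by a list. -/
def genOf (l : List G) (i : ℕ) : G := l.getD i 1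

theorem genOf_invol {l : List G} (h : ∀ y ∈ l, y * y = 1) (i : ℕ) : genOf l i * genOf l i = 1 := by
  by_cases hi : i < l.length
  · rw [genOf, List.getD_eq_getElem _ _ hi]
    exact h _ (List.getElem_mem hi)
  · rw [genOf, List.getD_eq_default _ _ (by omega), one_mul]

/-- The relators of the symmetric group of degree six. -/
def relSix : List (List ℕ) := T5.base

/-- The relators of the unitary group of dimension four. -/
def relFour : List (List ℕ) := T6.base

/-- The relators of the unitary group of dimension five. -/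
def relFive : List (List ℕ) := T7.base

theorem cardLe_six {gen : ℕ → G} (hinv : ∀ x, gen x * gen x = 1) (h : ∀ w ∈ relSix, wprod gen w = 1) :
    CardLe (Subgroup.closure (pick gen [0, 1, 2, 3, 4] '' {x | x < [0, 1, 2, 3, 4].length})) 720 := by
  have hb : ∀ w ∈ [0, 0] :: relSix, wprod gen w = 1 := by
    intro w hw
    rcases List.mem_cons.1 hw with rfl | hw
    · simp [wprod, hinv]
    · exact h w hw
  have s1 := cardLe_step hinv hb (P := T1.P) (emb := [0]) (emb' := []) (base := T1.base)
    (by decide +kernel) T1.rots_ok (sw := T1.subs) (by decide +kernel) (by decide +kernel) T1.cert_ok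
    T1.tab_ok (cardLe_pick_nil gen) (by decide +kernel)
  have s2 := cardLe_step hinv hb (P := T2.P) (emb := [0, 1]) (emb' := [0]) (base := T2.base)
    (by decide +kernel) T2.rots_ok (sw := T2.subs) (by decide +kernel) (by decide +kernel) T2.cert_ok
    T2.tab_ok s1 (by decide +kernel)
  have s3 := cardLe_step hinv hb (P := T3.P) (emb := [0, 1, 2]) (emb' := [0, 1]) (base := T3.base)
    (by decide +kernel) T3.rots_ok (sw := T3.subs) (by decide +kernel) (by decide +kernel) T3.cert_ok
    T3.tab_ok s2 (by decide +kernel)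
  have s4 := cardLe_step hinv hb (P := T4.P) (emb := [0, 1, 2, 3]) (emb' := [0, 1, 2]) (base := T4.base)
    (by decide +kernel) T4.rots_ok (sw := T4.subs) (by decide +kernel) (by decide +kernel) T4.cert_ok
    T4.tab_ok s3 (by decide +kernel)
  have s5 := cardLe_step hinv hb (P := T5.P) (emb := [0, 1, 2, 3, 4]) (emb' := [0, 1, 2, 3])
    (base := T5.base) (by decide +kernel) T5.rots_ok (sw := T5.subs) (by decide +kernel)
    (by decide +kernel) T5.cert_ok T5.tab_ok s4 (by decide +kernel)
  exact s5

theorem cardLe_four {gen : ℕ → G} (hinv : ∀ x, gen x * gen x = 1) (h : ∀ w ∈ relFour, wprod gen w = 1) :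
    CardLe (Subgroup.closure (pick gen [0, 1, 2, 3, 4, 5] '' {x | x < [0, 1, 2, 3, 4, 5].length})) 25920 := by
  have hsub : (relSix.all fun w => relFour.any fun u => wordEq w u) = true := by decide +kernel
  have h' : ∀ w ∈ relSix, wprod gen w = 1 := by
    intro w hw
    obtain ⟨u, hu, he⟩ := List.any_eq_true.1 (List.all_eq_true.1 hsub w hw)
    exact eq_of_wordEq he ▸ h u hu
  exact cardLe_step hinv h (P := T6.P) (emb := [0, 1, 2, 3, 4, 5]) (emb' := [0, 1, 2, 3, 4])
    (base := T6.base) (by decide +kernel) T6.rots_ok (sw := T6.subs) (by decide +kernel)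
    (by decide +kernel) T6.cert_ok T6.tab_ok (cardLe_six hinv h') (by decide +kernel)

theorem cardLe_five {gen : ℕ → G} (hinv : ∀ x, gen x * gen x = 1) (h : ∀ w ∈ relFive, wprod gen w = 1) :
    CardLe (Subgroup.closure (pick gen [0, 1, 2, 3, 4, 5, 6] '' {x | x < [0, 1, 2, 3, 4, 5, 6].length}))
      13685760 := by
  have hsub : (relFour.all fun w => relFive.any fun u => wordEq w u) = true := by decide +kernel
  have h' : ∀ w ∈ relFour, wprod gen w = 1 := by
    intro w hw
    obtain ⟨u, hu, he⟩ := List.any_eq_true.1 (List.all_eq_true.1 hsub w hw)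
    exact eq_of_wordEq he ▸ h u hu
  exact cardLe_step hinv h (P := T7.P) (emb := [0, 1, 2, 3, 4, 5, 6]) (emb' := [0, 1, 2, 3, 4, 5])
    (base := T7.base) (by decide +kernel) T7.rots_ok (sw := T7.subs) (by decide +kernel)
    (by decide +kernel) T7.cert_ok T7.tab_ok (cardLe_four hinv h') (by decide +kernel)

theorem closure_pick {gen : ℕ → G} (k : ℕ) :
    Subgroup.closure (pick gen (List.range k) '' {x | x < (List.range k).length}) =
      Subgroup.closure (gen '' {x | x < k}) := by
  congr 1
  rw [List.length_range]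
  refine Set.image_congr fun x (hx : x < k) => ?_
  rw [pick, List.getD_eq_getElem _ _ (by simpa using hx), List.getElem_range]

/-- A word that fixes the base point of a table over the trivial subgroup is trivial. -/
theorem word_one {P : Params} {n : ℕ} {tree : List ℕ} {phases : List Phase} {base : List (List ℕ)}
    {hints : List (ℕ × ℕ × Bool)} (hrots : rotsOK base P.rots.entries hints = true)
    (hsub : P.subs = []) (hcert : checkCert P n tree phases = true) (htab : tableOK P n = true)
    (hn : 0 < n) {l : List G} (hl : l.length ≤ P.k) (hinv : ∀ y ∈ l, y * y = 1)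
    (hb : ∀ w ∈ base, wprod (genOf l) w = 1) {w : List ℕ}
    (hw : (w.all fun x => Nat.blt x P.k) = true) (hfix : tact P w 0 = 0) : wprod (genOf l) w = 1 := by
  set K := Subgroup.closure (genOf l '' {x | x < P.k}) with hK
  have hmem : ∀ x, genOf l x ∈ K := by
    intro x
    by_cases hx : x < P.k
    · exact Subgroup.subset_closure ⟨x, hx, rfl⟩
    · rw [genOf, List.getD_eq_default _ _ (by omega)]
      exact one_mem _
  let f : ℕ → K := fun x => ⟨genOf l x, hmem x⟩
  have hval : ∀ v : List ℕ, ((wprod f v : K) : G) = wprod (genOf l) v := by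
    intro v
    simp [wprod, f, List.map_map, Function.comp_def]
  have htop : Subgroup.closure (f '' {x | x < P.k}) = ⊤ := by
    refine eq_top_iff.2 fun ⟨y, hy⟩ _ => ?_
    have h1 : (Subgroup.closure (f '' {x | x < P.k})).map K.subtype = K := by
      rw [MonoidHom.map_closure, ← Set.image_comp]
      rfl
    obtain ⟨z, hz, hzy⟩ := (Subgroup.mem_map).1 (h1.symm ▸ hy : y ∈ _)
    rwa [← show z = ⟨y, hy⟩ from Subtype.ext hzy]
  obtain ⟨-, -, h⟩ := index_bound (gen := f)
    (fun x => Subtype.ext (genOf_invol hinv x)) htop (base := base)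
    (fun v hv => Subtype.ext ((hval v).trans (hb v hv))) hrots (H := ⊥)
    (fun v hv => absurd hv (by simp [hsub])) hcert htab hn
  rw [← hval, Subgroup.mem_bot.1 (h w hw hfix)]
  rfl

theorem plane_words {a w r : G} (ha : a * a = 1) (hw : w * w = 1) (hr : r * r = 1)
    (hb : ∀ v ∈ TPlane.base, wprod (genOf [a, w, r]) v = 1) (i : ℕ) (hi : i < 3) :
    Commute (a * r * a * w * r * a * w * a) (genOf [a, w, r] i) ∧
      (a * r * a * w * r * a * w * a) ^ 3 = 1 := by
  have hinv : ∀ y ∈ [a, w, r], y * y = 1 := by simp [ha, hw, hr]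
  have key : ∀ v : List ℕ, (v.all fun x => Nat.blt x 3) = true → tact TPlane.P v 0 = 0 →
      wprod (genOf [a, w, r]) v = 1 := fun v h1 h2 =>
    word_one TPlane.rots_ok rfl TPlane.cert_ok TPlane.tab_ok (by norm_num) (by simp [TPlane.P]) hinv hb h1 h2
  set C := a * r * a * w * r * a * w * a with hC
  have hCw : wprod (genOf [a, w, r]) [0, 2, 0, 1, 2, 0, 1, 0] = C := by
    simp [wprod, genOf, hC, mul_assoc]
  refine ⟨?_, ?_⟩
  · have h2 : ∀ i < 3, tact TPlane.P ([0, 2, 0, 1, 2, 0, 1, 0] ++ [i] ++
        [0, 2, 0, 1, 2, 0, 1, 0].reverse ++ [i]) 0 = 0 ∧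
        ((([0, 2, 0, 1, 2, 0, 1, 0] ++ [i] ++ [0, 2, 0, 1, 2, 0, 1, 0].reverse ++ [i]) : List ℕ).all
          fun x => Nat.blt x 3) = true := by decide +kernel
    have := key _ (h2 i hi).2 (h2 i hi).1
    rw [wprod_append, wprod_append, wprod_append, wprod_reverse (genOf_invol hinv), hCw] at this
    have e : wprod (genOf [a, w, r]) [i] = genOf [a, w, r] i := by simp [wprod]
    rw [e, mul_eq_one_iff_eq_inv, inv_eq_of_mul_eq_one_right (genOf_invol hinv i),
      mul_inv_eq_iff_eq_mul] at this
    exact this
  · have h2 : tact TPlane.P ([0, 2, 0, 1, 2, 0, 1, 0] ++ [0, 2, 0, 1, 2, 0, 1, 0] ++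
        [0, 2, 0, 1, 2, 0, 1, 0]) 0 = 0 := by decide +kernel
    have := key _ (by decide +kernel) h2
    rw [wprod_append, wprod_append, hCw] at this
    rw [pow_succ, pow_two]
    exact this

theorem collapse_words {a b w r : G} (hinv : ∀ y ∈ [a, b, w, r], y * y = 1)
    (hb : ∀ v ∈ TCollapse.base, wprod (genOf [a, b, w, r]) v = 1) : b * a = 1 := by
  have h := word_one TCollapse.rots_ok rfl TCollapse.cert_ok TCollapse.tab_ok (by norm_num)
    (by simp [TCollapse.P]) hinv hb (w := [1, 0]) (by decide +kernel) (by decide +kernel)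
  simpa [wprod, genOf] using h

end Cfsg.Agent.FischerSolvable
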