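import Cfsg.Agent.Lib.Classical.UnitaryStd
import Cfsg.Agent.Lib.RigidGraph.He.FieldFour
import Cfsg.Agent.Lib.Compute.CosetCert

/-!
Sets of transvections of SUₙ(2) given by coded vectors, with checkable certificates.
-/

set_option autoImplicit false

namespace Cfsg.Agent.FischerSolvable.Model

open Cfsg Cfsg.Agent Cfsg.Agent.CosetCert Cfsg.Agent.RigidGraph.He Matrix

variable {n : ℕ}

/-- A coded vector. -/
def vec (n c : ℕ) : Fin n → K4 := fun i => K4.ofDigit (c / 4 ^ (i : ℕ) % 4)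

/-- The transvection along `v`. -/
def tv (v x : Fin n → K4) : Fin n → K4 := fun i => x i + hermForm n K4 2 x v * v i

/-- The `j`-th vector. -/
def gv (n : ℕ) (V : List ℕ) (j : ℕ) : Fin n → K4 := vec n (V.getD j 0)

/-- A step along the transvection `j`. -/
def edgeOK (n : ℕ) (V : List ℕ) (j d c : ℕ) : Bool :=
  decide (∀ i, tv (gv n V j) (vec n d) i = vec n c i)

/-- The orbit of a coded vector along a word. -/
def chainOK (n : ℕ) (V : List ℕ) : List ℕ → List ℕ → Bool
  | [], [_] => true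
  | a :: w, c :: d :: cs => edgeOK n V a d c && chainOK n V w (d :: cs)
  | _, _ => false

/-- The relators fix all unit vectors. -/
def relsOK (n : ℕ) (V : List ℕ) : List (List ℕ) → List (List (List ℕ)) → Bool
  | [], [] => true
  | w :: R, row :: C =>
    (List.range n).all (fun i => chainOK n V w (row.getD i []) && Nat.beq ((row.getD i []).headD 0) (4 ^ i) &&
      Nat.beq ((row.getD i []).getLastD 0) (4 ^ i)) && relsOK n V R C
  | _, _ => false

/-- Every entry comes from an earlier one. -/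
def orbitOK (n : ℕ) (V : List ℕ) : List ℕ → List (ℕ × ℕ × ℕ) → Bool
  | _, [] => true
  | known, (c, p, g) :: t =>
    known.any (fun k => Nat.beq k p) && (Nat.blt g V.length && edgeOK n V g p c) && orbitOK n V (c :: known) t

/-- The number of nonzero digits. -/
def weight (n c : ℕ) : ℕ := ((List.range n).filter fun i => !Nat.beq (c / 4 ^ i % 4) 0).length

/-- All codes of nonzero isotropic vectors are listed. -/
def coverOK (n : ℕ) (V : List ℕ) (t : List (ℕ × ℕ × ℕ)) : Bool :=
  (List.range (4 ^ n)).all fun c =>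
    Nat.beq c 0 || Nat.beq (weight n c % 2) 1 || V.any (fun k => Nat.beq k c) ||
      t.any (fun e => Nat.beq e.1 c)

/-- The natural action. -/
noncomputable def mv (A : Cfsg.SU n K4 2) (u : Fin n → K4) : Fin n → K4 :=
  ((A : Matrix.SpecialLinearGroup (Fin n) K4) : Matrix (Fin n) (Fin n) K4) *ᵥ u

theorem mv_mul (A B : Cfsg.SU n K4 2) (u : Fin n → K4) : mv (A * B) u = mv A (mv B u) :=
  (Matrix.mulVec_mulVec u _ _).symm

theorem mv_one (u : Fin n → K4) : mv (1 : Cfsg.SU n K4 2) u = u := Matrix.one_mulVec u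

theorem mv_ext {A B : Cfsg.SU n K4 2} (h : ∀ x, mv A x = mv B x) : A = B :=
  Subtype.ext (Subtype.ext (Matrix.ext_of_mulVec_single fun _ => h _))

open Classical in
/-- The transvection along `v` as an element. -/
noncomputable def tr (v : Fin n → K4) : Cfsg.SU n K4 2 :=
  if h : ∃ A : Cfsg.SU n K4 2, ((A : Matrix.SpecialLinearGroup (Fin n) K4) : Matrix (Fin n) (Fin n) K4) =
    Cfsg.unitaryTransvection n 2 v 1 then h.choose else 1

variable (hn : 0 < n)
include hn

theorem exists_form : ∃ σ : K4 ≃+* K4, (∀ x, σ x = x ^ 2) ∧ Geo.IsUnitaryForm σ (hermForm n K4 2) := by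
  obtain ⟨σ, hσ, hf, -⟩ := UnitaryStd.exists_setup (n := n) (F := K4) (q := 2)
    (by rw [K4.card_K4]; rfl) hn
  exact ⟨σ, hσ, hf⟩

theorem mv_tr {v : Fin n → K4} (hv : hermForm n K4 2 v v = 0) (x : Fin n → K4) : mv (tr v) x = tv v x := by
  obtain ⟨σ, -, hf⟩ := exists_form hn
  have h : ∃ A : Cfsg.SU n K4 2, ((A : Matrix.SpecialLinearGroup (Fin n) K4) : Matrix (Fin n) (Fin n) K4) =
      Cfsg.unitaryTransvection n 2 v 1 := by
    obtain ⟨A, -, hA⟩ := UnitaryStd.exists_su_htv hf v hv (c := 1) (by rw [map_one]; decide)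
    exact ⟨A, hA⟩
  rw [tr, dif_pos h, mv, h.choose_spec, UnitaryStd.unitaryTransvection_mulVec, one_mul]
  rfl

theorem tv_tv {v : Fin n → K4} (hv : hermForm n K4 2 v v = 0) (x : Fin n → K4) : tv v (tv v x) = x := by
  obtain ⟨σ, -, hf⟩ := exists_form hn
  have e : tv v x = x + hermForm n K4 2 x v • v := rfl
  show tv v x + hermForm n K4 2 (tv v x) v • v = x
  rw [e, hf.add_left, hf.smul_left, hv, mul_zero, add_zero]
  funext i
  show x i + hermForm n K4 2 x v * v i + hermForm n K4 2 x v * v i = x i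
  rw [add_assoc, K4.add_self, add_zero]

theorem tr_sq (v : Fin n → K4) (hv : hermForm n K4 2 v v = 0) : tr v * tr v = 1 := by
  refine mv_ext fun x => ?_
  rw [mv_mul, mv_tr hn hv, mv_tr hn hv, tv_tv hn hv, mv_one]

theorem tr_conj {v g : Fin n → K4} (hv : hermForm n K4 2 v v = 0) (hg : hermForm n K4 2 g g = 0) :
    hermForm n K4 2 (tv g v) (tv g v) = 0 ∧ tr (tv g v) = tr g * tr v * tr g := by
  obtain ⟨σ, -, hf⟩ := exists_form hn
  have hiso : ∀ x y, hermForm n K4 2 (tv g x) (tv g y) = hermForm n K4 2 x y := fun x y => by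
    rw [← mv_tr hn hg, ← mv_tr hn hg]
    exact (tr g).2 x y
  have h0 : hermForm n K4 2 (tv g v) (tv g v) = 0 := (hiso v v).trans hv
  refine ⟨h0, mv_ext fun x => ?_⟩
  rw [mv_mul, mv_mul, mv_tr hn h0, mv_tr hn hv, mv_tr hn hg x]
  have e : tv v (tv g x) = tv g x + hermForm n K4 2 (tv g x) v • v := rfl
  rw [e]
  show tv (tv g v) x = mv (tr g) (tv g x + hermForm n K4 2 (tv g x) v • v)
  rw [mv, Matrix.mulVec_add, Matrix.mulVec_smul]
  show tv (tv g v) x = mv (tr g) (tv g x) + hermForm n K4 2 (tv g x) v • mv (tr g) v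
  rw [mv_tr hn hg, mv_tr hn hg, tv_tv hn hg, ← hiso (tv g x) v, tv_tv hn hg]
  rfl

omit hn in
/-- The generators of the model. -/
noncomputable def gen (n : ℕ) (V : List ℕ) (j : ℕ) : Cfsg.SU n K4 2 :=
  if j < V.length then tr (gv n V j) else 1

variable {V : List ℕ} (hV : ∀ j < V.length, hermForm n K4 2 (gv n V j) (gv n V j) = 0)
include hV

theorem gen_sq (j : ℕ) : gen n V j * gen n V j = 1 := by
  rw [gen]
  split_ifs with h
  exacts [tr_sq hn _ (hV j h), one_mul 1]

theorem chain_spec : ∀ (w cs : List ℕ), chainOK n V w cs = true → (∀ a ∈ w, a < V.length) →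
    mv (wprod (gen n V) w) (vec n (cs.getLastD 0)) = vec n (cs.headD 0)
  | [], [c], _, _ => by simp [wprod, mv_one]
  | [], [], h, _ => by simp [chainOK] at h
  | [], _ :: _ :: _, h, _ => by simp [chainOK] at h
  | _ :: _, [], h, _ => by simp [chainOK] at h
  | _ :: _, [_], h, _ => by simp [chainOK] at h
  | a :: w, c :: d :: cs, h, hw => by
    rw [chainOK, Bool.and_eq_true] at h
    have ih := chain_spec w (d :: cs) h.2 fun x hx => hw x (List.mem_cons_of_mem _ hx)
    have ha := hw a (List.mem_cons_self ..)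
    rw [show wprod (gen n V) (a :: w) = gen n V a * wprod (gen n V) w by simp [wprod], mv_mul,
      show (c :: d :: cs).getLastD 0 = (d :: cs).getLastD 0 by simp [List.getLastD], ih, gen, if_pos ha,
      mv_tr hn (hV a ha)]
    exact funext (of_decide_eq_true h.1)

theorem rels_spec (hunit : ∀ i : Fin n, vec n (4 ^ (i : ℕ)) = Pi.single i 1) :
    ∀ (R : List (List ℕ)) (C : List (List (List ℕ))), relsOK n V R C = true →
      (∀ w ∈ R, ∀ a ∈ w, a < V.length) → ∀ w ∈ R, wprod (gen n V) w = 1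
  | [], _, _, _ => fun w hw => absurd hw List.not_mem_nil
  | _ :: _, [], h, _ => by simp [relsOK] at h
  | w :: R, row :: C, h, hlt => by
    rw [relsOK, Bool.and_eq_true, List.all_eq_true] at h
    intro u hu
    rcases List.mem_cons.1 hu with rfl | hu
    swap
    · exact rels_spec hunit R C h.2 (fun v hv => hlt v (List.mem_cons_of_mem _ hv)) u hu
    refine Subtype.ext (Subtype.ext (Matrix.ext_of_mulVec_single fun i => ?_))
    have hi := h.1 i (List.mem_range.2 i.2)
    rw [Bool.and_eq_true, Bool.and_eq_true, Nat.beq_eq, Nat.beq_eq] at hi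
    have e := chain_spec hn hV u _ hi.1.1 (hlt u (List.mem_cons_self ..))
    rw [hi.1.2, hi.2, hunit i] at e
    exact e.trans (Matrix.one_mulVec _).symm

theorem orbit_spec {K : Subgroup (Cfsg.SU n K4 2)} (hK : ∀ j < V.length, gen n V j ∈ K) :
    ∀ (t : List (ℕ × ℕ × ℕ)) (known : List ℕ), orbitOK n V known t = true →
      (∀ c ∈ known, hermForm n K4 2 (vec n c) (vec n c) = 0 ∧ tr (vec n c) ∈ K) →
      ∀ c ∈ known ++ t.map Prod.fst, hermForm n K4 2 (vec n c) (vec n c) = 0 ∧ tr (vec n c) ∈ K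
  | [], known, _, hk => by simpa using hk
  | (c, p, g) :: t, known, h, hk => by
    rw [orbitOK, Bool.and_eq_true, Bool.and_eq_true, Bool.and_eq_true, List.any_eq_true, Nat.blt_eq] at h
    obtain ⟨⟨⟨q, hq, hqp⟩, hg, he⟩, h'⟩ := h
    rw [Nat.beq_eq] at hqp
    subst hqp
    have he' : tv (gv n V g) (vec n q) = vec n c := funext (of_decide_eq_true he)
    have hgK := hK g hg
    rw [gen, if_pos hg] at hgK
    obtain ⟨h1, h2⟩ := tr_conj hn (hk q hq).1 (hV g hg)
    rw [he'] at h1 h2
    have hc : hermForm n K4 2 (vec n c) (vec n c) = 0 ∧ tr (vec n c) ∈ K :=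
      ⟨h1, h2 ▸ mul_mem (mul_mem hgK (hk q hq).2) hgK⟩
    intro x hx
    refine orbit_spec hK t (c :: known) h' (List.forall_mem_cons.2 ⟨hc, hk⟩) x ?_
    simp only [List.map_cons, List.mem_append, List.mem_cons] at hx ⊢
    tauto

theorem closure_gen (hn3 : 3 ≤ n) (hn4 : n ≠ 3) {t : List (ℕ × ℕ × ℕ)} (hcov : coverOK n V t = true)
    (horb : orbitOK n V V t = true)
    (henc : ∀ v : Fin n → K4, ∃ c < 4 ^ n, vec n c = v)
    (hwt : ∀ c < 4 ^ n, weight n c % 2 = 1 → hermForm n K4 2 (vec n c) (vec n c) ≠ 0) :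
    Subgroup.closure (gen n V '' {j | j < V.length}) = ⊤ := by
  obtain ⟨σ, hσ, hf⟩ := exists_form hn
  set K := Subgroup.closure (gen n V '' {j | j < V.length})
  have hK : ∀ j < V.length, gen n V j ∈ K := fun j hj => Subgroup.subset_closure ⟨j, hj, rfl⟩
  have hbase : ∀ c ∈ V, hermForm n K4 2 (vec n c) (vec n c) = 0 ∧ tr (vec n c) ∈ K := by
    intro c hc
    obtain ⟨j, hj, rfl⟩ := List.mem_iff_getElem.1 hc
    have e : gv n V j = vec n V[j] := by rw [gv, List.getD_eq_getElem _ _ hj]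
    exact ⟨e ▸ hV j hj, e ▸ (show gen n V j = tr (gv n V j) from if_pos hj) ▸ hK j hj⟩
  have hall := orbit_spec hn hV hK t V horb hbase
  rw [eq_top_iff, ← UnitaryStd.closure_eq_top hf hn3 (fun h => absurd h hn4), Subgroup.closure_le]
  rintro A ⟨v, c, hv, hA⟩
  have hone : ∀ w : Fin n → K4, ∀ d : K4, d = 0 ∨ w = 0 →
      (A : Matrix.SpecialLinearGroup (Fin n) K4).1 = Cfsg.unitaryTransvection n 2 w d → A ∈ K := by
    intro w d h hw
    have : A = 1 := Subtype.ext (Subtype.ext (by rw [hw]; rcases h with rfl | rfl <;> simp [Cfsg.unitaryTransvection]))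
    exact this ▸ one_mem _
  rcases eq_or_ne v 0 with rfl | hv0
  · exact hone 0 c (Or.inr rfl) hA
  have hc := UnitaryStd.anti_of_mem hf A hv hv0 hA
  have hc2 : ∀ c : K4, c ^ 2 = -c → c = 0 ∨ c = 1 := by decide
  rcases hc2 c ((hσ c).symm.trans hc) with rfl | rfl
  · exact hone v 0 (Or.inl rfl) hA
  obtain ⟨k, hk, rfl⟩ := henc v
  have e : A = tr (vec n k) := mv_ext fun x => by
    rw [mv_tr hn hv, mv, hA, UnitaryStd.unitaryTransvection_mulVec, one_mul]
    rfl
  rw [SetLike.mem_coe, e]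
  have hk' := List.all_eq_true.1 hcov k (List.mem_range.2 hk)
  simp only [Bool.or_eq_true, Nat.beq_eq, List.any_eq_true] at hk'
  rcases hk' with ((h | h) | h) | h
  · subst h
    exact absurd (funext fun i => by simp [vec, K4.ofDigit]; rfl) hv0
  · exact absurd hv (hwt k hk h)
  · obtain ⟨j, hj, rfl⟩ := h
    exact (hall j (List.mem_append_left _ hj)).2
  · obtain ⟨p, hp, rfl⟩ := h
    exact (hall p.1 (List.mem_append_right _ (List.mem_map_of_mem hp))).2

end Cfsg.Agent.FischerSolvable.Model
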