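import Cfsg.Agent.Lib.Fischer.OddCoreLocal

/-!
Residues of a class of 3-transpositions without strings of four and without twins of non-commuting
members: commuting is transitive in each residue.
-/

set_option autoImplicit false

namespace Cfsg.Agent.FischerSolvable

open Cfsg.Agent Cfsg.Agent.Fischer Subgroup
open Cfsg.Agent.Fischer.OddCoreLocal (Ctx X)
open Cfsg.Agent.Fischer.LocalSymThree (nb nb_symm)

variable {G : Type*} [Group G] {D : Set G}

/-- The standing hypotheses on the residues. -/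
structure Hyp (D : Set G) : Prop where
  ctx : Ctx D
  str : ∀ d ∈ D, ∀ p ∈ nb D d, ∀ q ∈ nb D d, ∀ r ∈ nb D d, ∀ s ∈ nb D d, ¬ Commute p q →
    ¬ Commute q r → ¬ Commute r s → Commute p r → Commute p s → Commute q s → False
  sep : ∀ d ∈ D, ∀ y ∈ nb D d, ∀ y' ∈ nb D d, ¬ Commute y y' →
    ∃ w ∈ nb D d, w ≠ y ∧ w ≠ y' ∧ ¬ (Commute y w ↔ Commute y' w)

/-- The members of the residue at `d` at commuting distance at most two from `y`. -/
def comp (D : Set G) (d y : G) : Set G := {u | u ∈ nb D d ∧ ∃ m ∈ nb D d, Commute y m ∧ Commute m u}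

/-- The members of `S` at non-commuting distance at most two from `v`. -/
def cok (S : Set G) (v : G) : Set G :=
  {u | u ∈ S ∧ (u = v ∨ ¬ Commute v u ∨ ∃ q ∈ S, ¬ Commute v q ∧ ¬ Commute u q)}

namespace Hyp

variable (hh : Hyp D)
include hh

theorem exists_mid {d y z : G} (hd : d ∈ D) (hy : y ∈ nb D d) (hz : z ∈ nb D d) (hne : y ≠ z)
    (hc : Commute y z) : ∃ u ∈ nb D d, ¬ Commute y u ∧ ¬ Commute z u := by
  set S : Set G := {v | v ∈ nb D d ∧ (v = y ∨ ¬ Commute y v ∨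
    ∃ u ∈ nb D d, ¬ Commute y u ∧ ¬ Commute u v)} with hS
  have step : ∀ t ∈ nb D d, ∀ v ∈ S, t * v * t⁻¹ ∈ S := by
    intro t ht v hv
    by_cases htv : Commute t v
    · rwa [conj_eq_self_of_commute htv]
    have hw : t * v * t⁻¹ ∈ nb D d := by
      have := hh.ctx.nb_conj t hv.1
      rwa [conj_eq_self_of_commute ht.2.2.symm] at this
    set w := t * v * t⁻¹ with hwdef
    have hvw : ¬ Commute v w := by
      intro h
      have h1 : t * v * t = v * t * v := TSet.braid hh.ctx.tg.1 ht.1 hv.1.1 htv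
      rw [hwdef, TSet.inv hh.ctx.tg.1 ht.1, h1] at h
      have h2 := (commute_conj_iff v v (v * t * v)).2 h
      rw [mul_inv_cancel_right, TSet.inv hh.ctx.tg.1 hv.1.1,
        show v * (v * t * v) * v = (v * v) * t * (v * v) by simp only [mul_assoc],
        TSet.sq hh.ctx.tg.1 hv.1.1, one_mul, mul_one] at h2
      exact htv h2.symm
    refine ⟨hw, ?_⟩
    rcases hv.2 with rfl | hyv | ⟨u, hu, hyu, huv⟩
    · exact Or.inr (Or.inl hvw)
    · exact Or.inr (Or.inr ⟨v, hv.1, hyv, hvw⟩)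
    · by_cases hyw : Commute y w
      · by_cases huw : Commute u w
        · by_cases hyv : Commute y v
          · exact (hh.str d hd y hy u hu v hv.1 w hw hyu huv hvw hyv hyw huw).elim
          · exact Or.inr (Or.inr ⟨v, hv.1, hyv, hvw⟩)
        · exact Or.inr (Or.inr ⟨u, hu, hyu, huw⟩)
      · exact Or.inr (Or.inl hyw)
  have hall : ∀ g ∈ closure (nb D d), ∀ v ∈ S, g * v * g⁻¹ ∈ S := by
    intro g hg
    induction hg using Subgroup.closure_induction'' with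
    | mem t ht => exact step t ht
    | inv_mem t ht =>
      rw [TSet.inv hh.ctx.tg.1 ht.1]
      exact step t ht
    | one => intro v hv; simpa using hv
    | mul a b _ _ ha hb =>
      intro v hv
      rw [show a * b * v * (a * b)⁻¹ = a * (b * v * b⁻¹) * a⁻¹ by group]
      exact ha _ (hb v hv)
  obtain ⟨g, hg, rfl⟩ := hh.ctx.trc d hd y hy z hz
  rcases (hall g hg y ⟨hy, Or.inl rfl⟩).2 with h | h | ⟨u, hu, h1, h2⟩
  · exact absurd h.symm hne
  · exact absurd hc h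
  · exact ⟨u, hu, h1, fun h => h2 h.symm⟩

theorem comp_mono {d y v : G} (hd : d ∈ D) (hy : y ∈ nb D d) (hv : v ∈ nb D d) (hc : Commute y v) :
    comp D d y ⊆ comp D d v := by
  rintro u ⟨hu, m, hm, hym, hmu⟩
  refine ⟨hu, ?_⟩
  by_cases hvu : Commute v u
  · exact ⟨u, hu, hvu, Commute.refl u⟩
  by_cases hvm : Commute v m
  · exact ⟨m, hm, hvm, hmu⟩
  by_cases hyu : Commute y u
  · exact ⟨y, hy, hc.symm, hyu⟩
  exact (hh.str d hd y hy u hu v hv m hm hyu (fun h => hvu h.symm) hvm hc hym hmu.symm).elim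

theorem comp_eq {d y v : G} (hd : d ∈ D) (hy : y ∈ nb D d) (hv : v ∈ nb D d) (hc : Commute y v) :
    comp D d y = comp D d v :=
  (hh.comp_mono hd hy hv hc).antisymm (hh.comp_mono hd hv hy hc.symm)

omit hh in
theorem mem_comp {d y u : G} (hy : y ∈ nb D d) (hu : u ∈ nb D d) (hc : Commute y u) : u ∈ comp D d y :=
  ⟨hu, y, hy, Commute.refl y, hc⟩

theorem cok_closed {d y r u : G} (hd : d ∈ D) (hy : y ∈ nb D d) (hr : r ∈ cok (comp D d y) y)
    (hu : u ∈ comp D d y) (hru : ¬ Commute r u) : u ∈ cok (comp D d y) y := by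
  refine ⟨hu, ?_⟩
  by_cases hyu : Commute y u
  · rcases hr.2 with rfl | hyr | ⟨q, hq, hyq, hrq⟩
    · exact Or.inr (Or.inl hru)
    · exact Or.inr (Or.inr ⟨r, hr.1, hyr, fun h => hru h.symm⟩)
    · by_cases hyr : Commute y r
      · refine Or.inr (Or.inr ⟨q, hq, hyq, fun huq => ?_⟩)
        exact hh.str d hd y hy q hq.1 r hr.1.1 u hu.1 hyq (fun h => hrq h.symm) hru hyr hyu huq.symm
      · exact Or.inr (Or.inr ⟨r, hr.1, hyr, fun h => hru h.symm⟩)
  · exact Or.inr (Or.inl hyu)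

omit hh in
theorem cok_conj_subset (hC : Ctx D) (g d y : G) :
    (fun z => g * z * g⁻¹) '' cok (comp D d y) y ⊆
      cok (comp D (g * d * g⁻¹) (g * y * g⁻¹)) (g * y * g⁻¹) := by
  have hcomp : ∀ u ∈ comp D d y, g * u * g⁻¹ ∈ comp D (g * d * g⁻¹) (g * y * g⁻¹) := by
    rintro u ⟨hu, m, hm, h1, h2⟩
    exact ⟨hC.nb_conj g hu, _, hC.nb_conj g hm, (commute_conj_iff g y m).2 h1,
      (commute_conj_iff g m u).2 h2⟩
  rintro _ ⟨u, ⟨hu, h⟩, rfl⟩
  refine ⟨hcomp u hu, ?_⟩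
  rcases h with rfl | h | ⟨q, hq, h1, h2⟩
  · exact Or.inl rfl
  · exact Or.inr (Or.inl fun h' => h ((commute_conj_iff g y u).1 h'))
  · exact Or.inr (Or.inr ⟨_, hcomp q hq, fun h' => h1 ((commute_conj_iff g y q).1 h'),
      fun h' => h2 ((commute_conj_iff g u q).1 h')⟩)

theorem card_cok [Finite G] {d a d' a' : G} (hd : d ∈ D) (ha : a ∈ nb D d) (hd' : d' ∈ D)
    (ha' : a' ∈ nb D d') : (cok (comp D d a) a).ncard = (cok (comp D d' a') a').ncard := by
  have key : ∀ {d a d' a' : G}, d ∈ D → a ∈ nb D d → d' ∈ D → a' ∈ nb D d' →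
      (cok (comp D d a) a).ncard ≤ (cok (comp D d' a') a').ncard := by
    intro d a d' a' hd ha hd' ha'
    obtain ⟨g, rfl, rfl⟩ := hh.ctx.pair_move hd ha hd' ha'
    refine le_trans ?_ (Set.ncard_le_ncard (cok_conj_subset hh.ctx g d a) (Set.toFinite _))
    rw [Set.ncard_image_of_injective _ (fun y z h => mul_left_cancel (mul_right_cancel h))]
  exact (key hd ha hd' ha').antisymm (key hd' ha' hd ha)

theorem cok_X_eq {d y v : G} (hd : d ∈ D) (hy : y ∈ nb D d) (hv : v ∈ X D d y)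
    (hn : v ∉ cok (comp D d y) y) : cok (X D d y) v = cok (comp D d v) v := by
  have hyv : Commute y v := hv.2.2.2
  have hcomp : comp D d v = comp D d y := (hh.comp_eq hd hy hv.1 hyv).symm
  have hvC : v ∈ comp D d y := mem_comp hy hv.1 hyv
  rw [hcomp]
  ext u
  constructor
  · rintro ⟨hu, h⟩
    refine ⟨mem_comp hy hu.1 hu.2.2.2, h.imp id (Or.imp id ?_)⟩
    rintro ⟨q, hq, h1, h2⟩
    exact ⟨q, mem_comp hy hq.1 hq.2.2.2, h1, h2⟩
  · rintro ⟨hu, h⟩
    have hq' : ∀ q ∈ comp D d y, ¬ Commute v q → q ∈ X D d y := by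
      intro q hq hvq
      refine ⟨hq.1, hq.1.1, fun e => hvq (e ▸ hyv.symm), ?_⟩
      by_contra hyq
      exact hn ⟨hvC, Or.inr (Or.inr ⟨q, hq, hyq, hvq⟩)⟩
    have huX : u ∈ X D d y := by
      rcases h with rfl | h | ⟨q, hq, h1, h2⟩
      · exact hv
      · exact hq' u hu h
      · by_cases hvu : Commute v u
        · have hqX := hq' q hq h1
          refine ⟨hu.1, hu.1.1, fun e => h2 (e ▸ hqX.2.2.2), ?_⟩
          by_contra hyu
          exact hh.str d hd y hy u hu.1 q hq.1 v hv.1 hyu h2 (fun e => h1 e.symm) hqX.2.2.2 hyv hvu.symm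
        · exact hq' u hu hvu
    exact ⟨huX, h.imp id (Or.imp id fun ⟨q, hq, h1, h2⟩ => ⟨q, hq' q hq h1, h1, h2⟩)⟩

theorem cok_X_lt [Finite G] {d y v : G} (hd : d ∈ D) (hy : y ∈ nb D d) (hv : v ∈ X D d y)
    (hn : v ∈ cok (comp D d y) y) : (cok (X D d y) v).ncard < (cok (comp D d y) y).ncard := by
  have hyy : y ∈ cok (comp D d y) y := ⟨mem_comp hy hy (Commute.refl y), Or.inl rfl⟩
  have hC : ∀ u ∈ X D d y, u ∈ comp D d y := fun u hu => mem_comp hy hu.1 hu.2.2.2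
  refine Set.ncard_lt_ncard ?_ (Set.toFinite _)
  refine (Set.ssubset_iff_of_subset ?_).2 ⟨y, hyy, fun h => h.1.2.2.1 rfl⟩
  rintro u ⟨hu, rfl | h | ⟨q, hq, h1, h2⟩⟩
  · exact hn
  · exact hh.cok_closed hd hy hn (hC u hu) h
  · exact hh.cok_closed hd hy (hh.cok_closed hd hy hn (hC q hq) h1) (hC u hu) fun e => h2 e.symm

/-- Membership in the co-component of an edge does not depend on its orientation. -/
theorem cok_symm [Finite G] {d y v : G} (hd : d ∈ D) (hy : y ∈ nb D d) (hv : v ∈ X D d y) :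
    v ∈ cok (comp D d y) y → v ∈ cok (comp D y d) d := by
  intro h
  by_contra hn
  have hv' : v ∈ X D y d := ⟨hv.2, hv.1⟩
  have h1 := hh.cok_X_lt hd hy hv h
  have h2 := hh.cok_X_eq hy.1 (nb_symm hd hy) hv' hn
  rw [show X D y d = X D d y from Set.inter_comm _ _] at h2
  rw [h2, hh.card_cok hy.1 hv'.1 hd hy] at h1
  exact lt_irrefl _ h1

theorem no_cherry [Finite G] {d y z y' w : G} (hd : d ∈ D) (hy : y ∈ nb D d) (hz : z ∈ nb D d)
    (hy' : y' ∈ nb D d) (hw : w ∈ nb D d) (hyz : Commute y z) (hzy' : Commute z y')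
    (hyy' : ¬ Commute y y') (hyw : Commute y w) (hy'w : ¬ Commute y' w) (hwy : w ≠ y) : False := by
  set N : Set G := {m | m ∈ nb D d ∧ m ≠ y ∧ Commute y m} with hN
  have hzN : z ∈ N := ⟨hz, fun e => hyy' (e ▸ hzy'), hyz⟩
  obtain ⟨z₁, hz₁, hmax⟩ := Set.exists_max_image N
    (fun m => {q | q ∈ comp D d y ∧ ¬ Commute y q ∧ Commute m q}.ncard) (Set.toFinite _) ⟨z, hzN⟩
  have hfull : ∀ q ∈ comp D d y, ¬ Commute y q → Commute z₁ q := by
    intro q hq hyq
    by_contra hzq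
    obtain ⟨hqn, m, hm, hym, hmq⟩ := hq
    have hmy : m ≠ y := fun e => hyq (e ▸ hmq)
    have hmz : Commute m z₁ := by
      by_contra hmz
      exact hh.str d hd y hy q hqn z₁ hz₁.1 m hm hyq (fun e => hzq e.symm) (fun e => hmz e.symm)
        hz₁.2.2 hym hmq.symm
    have hlt : {q | q ∈ comp D d y ∧ ¬ Commute y q ∧ Commute z₁ q}.ncard <
        {q | q ∈ comp D d y ∧ ¬ Commute y q ∧ Commute m q}.ncard := by
      refine Set.ncard_lt_ncard ((Set.ssubset_iff_of_subset ?_).2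
        ⟨q, ⟨⟨hqn, m, hm, hym, hmq⟩, hyq, hmq⟩, fun e => hzq e.2.2⟩) (Set.toFinite _)
      rintro u ⟨hu, hyu, hzu⟩
      refine ⟨hu, hyu, ?_⟩
      by_contra hmu
      by_cases huq : Commute u q
      · exact hh.str d hd m hm u hu.1 y hy q hqn hmu (fun e => hyu e.symm) hyq hym.symm hmq huq
      · exact hh.str d hd m hm u hu.1 q hqn z₁ hz₁.1 hmu huq (fun e => hzq e.symm) hmq hmz hzu.symm
    exact absurd (hmax m ⟨hm, hmy, hym⟩) (not_le.2 hlt)
  have hy'C : y' ∈ comp D d y := ⟨hy', z, hz, hyz, hzy'⟩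
  have hzy1 : Commute z₁ y' := hfull y' hy'C hyy'
  have hwC : w ∈ comp D d y := mem_comp hy hw hyw
  have hwK : w ∈ cok (comp D d y) y := ⟨hwC, Or.inr (Or.inr ⟨y', hy'C, hyy', fun e => hy'w e.symm⟩)⟩
  have hzw : Commute z₁ w := by
    by_contra hzw
    exact hh.str d hd y hy y' hy' w hw z₁ hz₁.1 hyy' hy'w (fun e => hzw e.symm) hyw hz₁.2.2 hzy1.symm
  have hzK : z₁ ∉ cok (comp D d y) y := by
    rintro ⟨-, h | h | ⟨q, hq, h1, h2⟩⟩
    exacts [hz₁.2.1 h, h hz₁.2.2, h2 (hfull q hq h1)]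
  have hwX : w ∈ X D d y := ⟨hw, hw.1, hwy, hyw⟩
  have hzX : z₁ ∈ X D d y := ⟨hz₁.1, hz₁.1.1, hz₁.2.1, hz₁.2.2⟩
  have hdy : d ∈ nb D y := nb_symm hd hy
  obtain ⟨a, ha, hda, hwa⟩ : ∃ a ∈ comp D y d, ¬ Commute d a ∧ ¬ Commute w a := by
    rcases (hh.cok_symm hd hy hwX hwK).2 with e | e | e
    · exact absurd e hw.2.1
    · exact absurd hw.2.2 e
    · exact e
  have hza : Commute z₁ a := by
    by_contra hza
    refine hzK (hh.cok_symm hy.1 hdy ⟨hzX.2, hzX.1⟩ ?_)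
    exact hh.cok_closed hy.1 hdy (r := a) ⟨ha, Or.inr (Or.inl hda)⟩
      (mem_comp hdy hzX.2 hz₁.1.2.2) fun e => hza e.symm
  have hne : ∀ {u : G}, ¬ Commute w u → u ≠ z₁ := fun h e => h (e ▸ hzw.symm)
  have ra : a ∈ nb D z₁ := ⟨ha.1.1, hne hwa, hza⟩
  have rd : d ∈ nb D z₁ := nb_symm hd hz₁.1
  have ry : y ∈ nb D z₁ := ⟨hy.1, hz₁.2.1.symm, hz₁.2.2.symm⟩
  have rw' : w ∈ nb D z₁ := ⟨hw.1, fun e => hzK (e ▸ hwK), hzw⟩
  have ry' : y' ∈ nb D z₁ := ⟨hy'.1, hne fun e => hy'w e.symm, hzy1⟩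
  by_cases hay : Commute a y'
  · exact hh.str z₁ hz₁.1.1 d rd a ra w rw' y' ry' hda (fun e => hwa e.symm) (fun e => hy'w e.symm)
      hw.2.2 hy'.2.2 hay
  · exact hh.str z₁ hz₁.1.1 d rd a ra y' ry' y ry hda hay (fun e => hyy' e.symm) hy'.2.2 hy.2.2
      ha.1.2.2.symm

/-- Commuting is transitive in every residue. -/
theorem trans_nb [Finite G] {d y z y' : G} (hd : d ∈ D) (hy : y ∈ nb D d) (hz : z ∈ nb D d)
    (hy' : y' ∈ nb D d) (hyz : Commute y z) (hzy' : Commute z y') : Commute y y' := by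
  by_contra h
  obtain ⟨w, hw, hwy, hwy', hiff⟩ := hh.sep d hd y hy y' hy' h
  by_cases h1 : Commute y w
  · exact hh.no_cherry hd hy hz hy' hw hyz hzy' h h1 (fun e => hiff (iff_of_true h1 e)) hwy
  · have h2 : Commute y' w := by
      by_contra h2
      exact hiff (iff_of_false h1 h2)
    exact hh.no_cherry hd hy' hz hy hw hzy'.symm hyz.symm (fun e => h e.symm) h2 h1 hwy'

end Hyp

end Cfsg.Agent.FischerSolvable
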