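import Cfsg.Agent.Lib.FischerSolvable.Count
import Cfsg.Agent.Lib.FischerSolvable.Bound

/-!
Generators of the group satisfying the relators of S₆, U₄(2) or U₅(2).
-/

set_option autoImplicit false
set_option maxRecDepth 20000

namespace Cfsg.Agent.FischerSolvable

open Cfsg.Agent Cfsg.Agent.Fischer Subgroup Cfsg.Agent.CosetCert
open Cfsg.Agent.CosetData.FischerSolvable
open Cfsg.Agent.Fischer.OddCoreLocal (Ctx X)
open Cfsg.Agent.Fischer.LocalSymThree (nb nb_symm)

variable {G : Type*} [Group G] {D : Set G}

theorem sq_of_commute {u v : G} (hD : IsThreeTranspositionSet D) (hu : u ∈ D) (hv : v ∈ D)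
    (h : Commute u v) : u * (v * (u * v)) = 1 := by
  have := (commute_iff_sq_eq_one (TSet.sq hD hu) (TSet.sq hD hv)).1 h
  simpa [pow_two, mul_assoc] using this

theorem cube_of_not {u v : G} (hD : IsThreeTranspositionSet D) (hu : u ∈ D) (hv : v ∈ D)
    (h : ¬ Commute u v) : u * (v * (u * (v * (u * v)))) = 1 := by
  have := TSet.cube hD hu hv h
  simpa [pow_succ, mul_assoc] using this

theorem cube_conj {u p q : G} (hD : IsThreeTranspositionGroup D) (hu : u ∈ D) (hp : p ∈ D) (hq : q ∈ D)
    (h : ¬ Commute u (p * q * p⁻¹)) :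
    u * (p * (q * (p * (u * (p * (q * (p * (u * (p * (q * p)))))))))) = 1 := by
  have := cube_of_not hD.1 hu (hD.2.1 p q hq) h
  rw [TSet.inv hD.1 hp] at this
  simpa [mul_assoc] using this

namespace Quad

variable (hQ : Quad D) [Finite G]
include hQ

/-- A subgroup containing a line, a point off the residue and the transversal contains all members. -/
theorem gen_all {x a g : G} (hx : x ∈ D) (ha : a ∈ nb D x) (hg : g ∈ D) (hxg : ¬ Commute x g)
    (hag : Commute a g) {S : Subgroup G} (hgS : g ∈ S) (hL : Line D x a ⊆ S) (hT : X D x g ⊆ S)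
    {u : G} (hu : u ∈ D) : u ∈ S := by
  have hxS : x ∈ S := hL (left_mem_line x a)
  have haS : a ∈ S := hL (right_mem_line x a)
  have haT : a ∈ X D x g := ⟨ha, ha.1, fun e => hxg (e ▸ ha.2.2), hag.symm⟩
  have hres : ∀ z ∈ nb D x, z ∈ S := by
    intro z hz
    have hgl : g ∉ Line D x z := fun h => hxg ((mem_line_iff hx hz).1 h).2.1
    obtain ⟨e, he, hge⟩ := hQ.exists_foot hx hz hg hgl
    obtain ⟨heD, hxe, hze⟩ := (mem_line_iff hx hz).1 he
    have hex : e ≠ x := fun h => hxg (h ▸ hge).symm
    have heT : e ∈ X D x g := ⟨⟨heD, hex, hxe⟩, heD, fun h => hxg (h ▸ hxe), hge⟩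
    obtain ⟨k, hk, hkx, hka⟩ : ∃ k ∈ S, k * x * k⁻¹ = x ∧ k * a * k⁻¹ = e := by
      by_cases hea : e = a
      · exact ⟨1, one_mem _, by group, by rw [hea]; group⟩
      refine ⟨a * e, mul_mem haS (hT heT), conj_eq_self_of_commute (ha.2.2.mul_right hxe).symm,
        TSet.conj_swap hQ.tset ha.1 heD ?_⟩
      exact hQ.transversal_ne hx hg hxg haT heT (Ne.symm hea)
    have hzl : k⁻¹ * z * k ∈ Line D x a := by
      refine (mem_line_iff hx ha).2 ⟨?_, ?_, ?_⟩
      · simpa using hQ.hyp.ctx.tg.2.1 k⁻¹ z hz.1
      · rw [← commute_conj_iff k, hkx, show k * (k⁻¹ * z * k) * k⁻¹ = z by group]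
        exact hz.2.2
      · rw [← commute_conj_iff k, hka, show k * (k⁻¹ * z * k) * k⁻¹ = z by group]
        exact hze.symm
    have := mul_mem (mul_mem hk (hL hzl)) (inv_mem hk)
    rwa [show k * (k⁻¹ * z * k) * k⁻¹ = z by group] at this
  have hcl : commClosure D x ≤ S := by
    refine (closure_le _).2 fun y hy => ?_
    by_cases e : y = x
    exacts [e ▸ hxS, hres y ⟨hy.1, e, hy.2⟩]
  by_cases hxu : Commute x u
  · by_cases e : u = x
    exacts [e ▸ hxS, hres u ⟨hu, e, hxu⟩]
  obtain ⟨m, hm, rfl⟩ := hQ.hyp.ctx.trn x hx g hg u hu hxg hxu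
  exact mul_mem (mul_mem (hcl hm) hgS) (inv_mem (hcl hm))

theorem transversal_le {x g : G} (hx : x ∈ D) (hg : g ∈ D) (hxg : ¬ Commute x g) {S : Subgroup G}
    {T₀ : Finset G} (h₀ : ∀ u ∈ T₀, u ∈ X D x g ∧ u ∈ S) (hne : T₀.Nonempty)
    (hcard : (X D x g).ncard < 3 * T₀.card) : X D x g ⊆ S := by
  classical
  set T := X D x g with hT
  have hclT : ∀ u ∈ T, ∀ v ∈ T, u * v * u⁻¹ ∈ T := by
    intro u hu v hv
    have h1 := hQ.hyp.ctx.nb_conj u hv.1
    have h2 := hQ.hyp.ctx.nb_conj u hv.2
    rw [conj_eq_self_of_commute hu.1.2.2.symm] at h1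
    rw [conj_eq_self_of_commute hu.2.2.2.symm] at h2
    exact ⟨h1, h2⟩
  obtain ⟨u₀, hu₀⟩ := hne
  obtain ⟨j, hj⟩ := OddCoreLocal.exists_card_eq_three_pow hQ.tset (T := T ∩ S) (fun u hu => hu.1.1.1)
    (fun u hu v hv => ⟨hclT u hu.1 v hv.1, mul_mem (mul_mem hu.2 hv.2) (inv_mem hu.2)⟩)
    (fun u hu v hv h => hQ.transversal_ne hx hg hxg hu.1 hv.1 h) ⟨u₀, h₀ u₀ hu₀⟩
  obtain ⟨n, hn⟩ := hQ.exists_pow_three hx hg hxg ⟨u₀, (h₀ u₀ hu₀).1⟩
  rw [← hT] at hn
  have h1 : T₀.card ≤ 3 ^ j := by
    rw [← hj, ← Set.ncard_coe_finset]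
    exact Set.ncard_le_ncard (fun u hu => h₀ u hu) (Set.toFinite _)
  have h2 : n ≤ j := by
    have : 3 ^ n < 3 ^ (j + 1) := by rw [pow_succ]; omega
    have := (Nat.pow_lt_pow_iff_right (by norm_num : 1 < 3)).1 this
    omega
  have h3 : T ∩ S = T := by
    refine Set.eq_of_subset_of_ncard_le Set.inter_subset_left ?_ (Set.toFinite _)
    rw [hj, hn]
    exact Nat.pow_le_pow_right (by norm_num) h2
  exact fun u hu => (h3.symm ▸ hu : u ∈ T ∩ S).2

end Quad

/-- The basic configuration. -/
structure Frame (D : Set G) (x g b w a : G) : Prop where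
  hx : x ∈ D
  hg : g ∈ D
  ha : a ∈ nb D x
  hw : w ∈ nb D x
  hb : b ∈ X D x a
  xg : ¬ Commute x g
  aw : ¬ Commute a w
  ag : Commute a g
  wg : Commute w g
  bg : ¬ Commute b g
  bw : ¬ Commute b w

namespace Frame

variable {x g b w a : G} (F : Frame D x g b w a) (hQ : Quad D)
include F

theorem mem_T_a : a ∈ X D x g := ⟨F.ha, F.ha.1, fun e => F.xg (e ▸ F.ha.2.2), F.ag.symm⟩

theorem mem_T_w : w ∈ X D x g := ⟨F.hw, F.hw.1, fun e => F.xg (e ▸ F.hw.2.2), F.wg.symm⟩

theorem b_line : b ∈ Line D x a := Or.inr (Or.inr F.hb)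

include hQ

theorem mem_T_awa : a * w * a ∈ X D x g := by
  have h1 := hQ.hyp.ctx.nb_conj a F.mem_T_w.1
  have h2 := hQ.hyp.ctx.nb_conj a F.mem_T_w.2
  rw [conj_eq_self_of_commute F.ha.2.2.symm] at h1
  rw [conj_eq_self_of_commute F.ag] at h2
  rw [TSet.inv hQ.tset F.ha.1] at h1 h2
  exact ⟨h1, h2⟩

theorem awa_ne : a * w * a ≠ a ∧ a * w * a ≠ w := by
  constructor
  · intro h
    have : a * w * a = 1 * a := by rw [one_mul]; exact h
    have h1 := mul_right_cancel this
    refine F.aw ?_
    rw [mul_eq_one_iff_eq_inv.1 h1, TSet.inv hQ.tset F.hw.1]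
  · intro h
    refine F.aw (OddCoreLocal.commute_conj_self_iff.1 ?_)
    rwa [TSet.inv hQ.tset F.ha.1]

variable [Finite G]

theorem ne_aw : a ≠ w := fun h => F.aw (h ▸ Commute.refl _)

theorem card_three : ∀ {S : Subgroup G}, a ∈ S → w ∈ S → (X D x g).ncard < 9 → X D x g ⊆ S := by
  classical
  intro S ha hw hlt
  refine hQ.transversal_le F.hx F.hg F.xg (T₀ := {a, w, a * w * a}) ?_ ⟨a, by simp⟩ ?_
  · intro u hu
    simp only [Finset.mem_insert, Finset.mem_singleton] at hu
    rcases hu with rfl | rfl | rfl
    exacts [⟨F.mem_T_a, ha⟩, ⟨F.mem_T_w, hw⟩, ⟨F.mem_T_awa hQ, mul_mem (mul_mem ha hw) ha⟩]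
  · rw [Finset.card_insert_of_notMem (by simp [F.ne_aw hQ, (F.awa_ne hQ).1.symm]),
      Finset.card_pair (F.awa_ne hQ).2.symm]
    omega

theorem card_nine : ∀ {S : Subgroup G} {r : G}, a ∈ S → w ∈ S → r ∈ S → r ∈ X D x g → r ≠ a → r ≠ w →
    r ≠ a * w * a → (X D x g).ncard < 12 → X D x g ⊆ S := by
  classical
  intro S r ha hw hr hrT h1 h2 h3 hlt
  refine hQ.transversal_le F.hx F.hg F.xg (T₀ := {r, a, w, a * w * a}) ?_ ⟨a, by simp⟩ ?_
  · intro u hu
    simp only [Finset.mem_insert, Finset.mem_singleton] at hu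
    rcases hu with rfl | rfl | rfl | rfl
    exacts [⟨hrT, hr⟩, ⟨F.mem_T_a, ha⟩, ⟨F.mem_T_w, hw⟩, ⟨F.mem_T_awa hQ, mul_mem (mul_mem ha hw) ha⟩]
  · rw [Finset.card_insert_of_notMem (by simp [h1, h2, h3]),
      Finset.card_insert_of_notMem (by simp [F.ne_aw hQ, (F.awa_ne hQ).1.symm]),
      Finset.card_pair (F.awa_ne hQ).2.symm]
    omega

/-- The fifth point of the line as a word. -/
theorem fifth {c : G} (hc : c ∈ Line D x a) (hcx : c ≠ x) (hca : c ≠ a) (hcb : c ≠ b) :
    w * c * b * a * w * a * b * c * w ∈ Line D x a ∧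
      w * c * b * a * w * a * b * c * w ∉ ({x, a, b, c} : Set G) := by
  have hwl : w ∉ Line D x a := fun h => F.aw ((mem_line_iff F.hx F.ha).1 h).2.2
  have hK : ∀ v ∈ Line D x a, v ≠ x → ¬ Commute w v := fun v hv hvx h =>
    hvx (hQ.foot_unique F.hx F.ha F.hw.1 hwl hv (left_mem_line x a) h F.hw.2.2.symm)
  have cl := fun {s t : G} (hs : s ∈ Line D x a) (ht : t ∈ Line D x a) =>
    hQ.line_clique F.hx F.ha hs ht
  obtain ⟨d, hd, hwd, hda, hdb, hdc, he⟩ := hQ.quad F.hx F.ha F.hw.1 (right_mem_line x a) F.b_line hc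
    (hK a (right_mem_line x a) F.ha.2.1) (hK b F.b_line F.hb.1.2.1) (hK c hc hcx)
    F.hb.2.2.1.symm (Ne.symm hca) (Ne.symm hcb)
  have hdx : d ≠ x := fun h => hwd (h ▸ F.hw.2.2.symm)
  have hcD := ((mem_line_iff F.hx F.ha).1 hc).1
  have hdD := ((mem_line_iff F.hx F.ha).1 hd).1
  have key : w * c * b * a * w * a * b * c * w = d := by
    have e1 : qq w a b = b * a * w * a * b := by
      rw [qq, (cl (right_mem_line x a) F.b_line).eq, mul_inv_rev, TSet.inv hQ.tset F.ha.1,
        TSet.inv hQ.tset F.hb.1.1]
      simp only [mul_assoc]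
    calc w * c * b * a * w * a * b * c * w = w * (c * qq w a b * c) * w := by
          rw [e1]; simp only [mul_assoc]
      _ = w * ((c * c) * (d * w * d) * (c * c)) * w := by
          rw [← he, qq, (cl hc hd).eq, mul_inv_rev, TSet.inv hQ.tset hcD, TSet.inv hQ.tset hdD,
            show c * (d * c * w * (c * d)) * c = c * (d * c) * w * (c * d) * c by simp only [mul_assoc],
            (cl hd hc).eq]
          simp only [mul_assoc]
          rw [← mul_assoc c d (c * w), (cl hc hd).eq, mul_assoc]
      _ = w * (d * w * d) * w := by rw [TSet.sq hQ.tset hcD, one_mul, mul_one]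
      _ = (w * w) * d * (w * w) := by
          rw [← TSet.braid hQ.tset F.hw.1 hdD hwd]; simp only [mul_assoc]
      _ = d := by rw [TSet.sq hQ.tset F.hw.1, one_mul, mul_one]
  rw [key]
  exact ⟨hd, by simp [hdx, hda, hdb, hdc]⟩

end Frame

/-- The result: generators with relators. -/
theorem Quad.exists_gens (hQ : Quad D) [Finite G] {x : G} (hx : x ∈ D) :
    ∃ (rel : List (List ℕ)) (l : List G), ((rel = relSix ∧ l.length = 5) ∨ (rel = relFour ∧ l.length = 6) ∨
      (rel = relFive ∧ l.length = 7)) ∧ (∀ y ∈ l, y ∈ D) ∧ (∀ v ∈ rel, wprod (genOf l) v = 1) ∧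
      closure {y | y ∈ l} = ⊤ := by
  classical
  have hDt := hQ.tset
  have hT := hQ.hyp.ctx.tg
  obtain ⟨a, ha⟩ := hQ.res x hx
  obtain ⟨w, hw, haw⟩ := hQ.exists_other_line hx ha
  have hxT : x ∈ X D a w := ⟨nb_symm hx ha, nb_symm hx hw⟩
  have hT3 : 3 ≤ (X D a w).ncard := by
    rcases hQ.params ha.1 hw.1 haw (nb_symm hx ha) with ⟨-, h⟩ | ⟨-, h | h⟩ <;> omega
  obtain ⟨g, hgT, hgx⟩ := Set.exists_ne_of_one_lt_ncard (show 1 < (X D a w).ncard by omega) x
  have hxg : ¬ Commute x g := hQ.transversal_ne ha.1 hw.1 haw hxT hgT (Ne.symm hgx)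
  have hgl : g ∉ Line D x a := fun h => hxg ((mem_line_iff hx ha).1 h).2.1
  have hwl : w ∉ Line D x a := fun h => haw ((mem_line_iff hx ha).1 h).2.2
  have hag : Commute a g := hgT.1.2.2
  have hwg : Commute w g := hgT.2.2.2
  obtain ⟨b, hb⟩ := hQ.ne x hx a ha
  have hbl : b ∈ Line D x a := Or.inr (Or.inr hb)
  have hbg : ¬ Commute b g := fun h => hb.2.2.1
    (hQ.foot_unique hx ha hgT.1.1 hgl hbl (right_mem_line x a) h.symm hag.symm)
  have hbw : ¬ Commute b w := fun h => hb.1.2.1
    (hQ.foot_unique hx ha hw.1 hwl hbl (left_mem_line x a) h.symm hw.2.2.symm)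
  have F : Frame D x g b w a := ⟨hx, hgT.1.1, ha, hw, hb, hxg, haw, hag, hwg, hbg, hbw⟩
  have hxD := hx
  have hgD := F.hg
  have haD := ha.1
  have hwD := hw.1
  have hbD := hb.1.1
  have cxb : Commute x b := hb.1.2.2
  have cab : Commute a b := hb.2.2.2
  have hpar := hQ.params hx F.hg hxg ha
  have hLcard : (Line D x a).ncard = (insert a (X D x a)).ncard + 1 := by
    rw [ncard_line hx ha, Set.ncard_insert_of_notMem (fun h => h.2.2.1 rfl) (Set.toFinite _)]
  have hcube := @cube_of_not G _ D
  have hsq := @sq_of_commute G _ D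
  have htop : ∀ S : Subgroup G, (∀ u ∈ D, u ∈ S) → S = ⊤ := fun S h =>
    top_unique (hT.2.2 ▸ (closure_le _).2 h)
  rcases hpar with ⟨hs, hr⟩ | ⟨hs, hr⟩
  · -- three points on a line
    refine ⟨relSix, [x, g, b, w, a], Or.inl ⟨rfl, rfl⟩, by simp [hxD, hgD, hbD, hwD, haD], ?_, ?_⟩
    · intro v hv
      simp only [relSix, T5.base, List.mem_cons, List.not_mem_nil, or_false] at hv
      rcases hv with rfl | rfl | rfl | rfl | rfl | rfl | rfl | rfl | rfl | rfl <;>
        simp only [wprod, genOf, List.map_cons, List.map_nil, List.prod_cons, List.prod_nil, mul_one,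
          List.getD_cons_zero, List.getD_cons_succ]
      · exact hcube hDt hxD hgD hxg
      · exact hsq hDt hxD hbD cxb
      · exact hsq hDt hxD hwD hw.2.2
      · exact hsq hDt hxD haD ha.2.2
      · exact hcube hDt hgD hbD fun h => hbg h.symm
      · exact hsq hDt hgD hwD hwg.symm
      · exact hsq hDt hgD haD hag.symm
      · exact hcube hDt hbD hwD hbw
      · exact hsq hDt hbD haD cab.symm
      · exact hcube hDt hwD haD fun h => haw h.symm
    · refine htop _ fun u hu => ?_
      set S := closure {y | y ∈ [x, g, b, w, a]}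
      have hmem : ∀ y ∈ [x, g, b, w, a], y ∈ S := fun y hy => subset_closure hy
      refine hQ.gen_all hx ha F.hg hxg hag (hmem g (by simp)) ?_
        (F.card_three hQ (hmem a (by simp)) (hmem w (by simp)) (by omega)) hu
      have e : ({x, a, b} : Set G) = Line D x a := by
        refine Set.eq_of_subset_of_ncard_le ?_ ?_ (Set.toFinite _)
        · simp only [Set.insert_subset_iff, Set.singleton_subset_iff]
          exact ⟨left_mem_line x a, right_mem_line x a, hbl⟩
        · rw [hLcard, hs, Set.ncard_insert_of_notMem (by simp [ha.2.1.symm, hb.1.2.1.symm]),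
            Set.ncard_pair hb.2.2.1.symm]
      rw [← e]
      rintro y (rfl | rfl | rfl) <;> exact hmem _ (by simp)
  · -- five points on a line
    have hL5 : (Line D x a).ncard = 5 := by rw [hLcard, hs]
    have common : ∀ c ∈ Line D x a, c ≠ x → c ≠ a → c ≠ b →
        (∀ v ∈ relFour, wprod (genOf [x, g, b, w, a, c]) v = 1) ∧
        (∀ S : Subgroup G, x ∈ S → a ∈ S → b ∈ S → w ∈ S → c ∈ S → Line D x a ⊆ S) := by
      intro c hc hcx hca hcb
      obtain ⟨hcD, cxc, cac⟩ := (mem_line_iff hx ha).1 hc
      have cbc : Commute b c := hQ.line_clique hx ha hbl hc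
      have hgc : ¬ Commute g c := fun h =>
        hca (hQ.foot_unique hx ha F.hg hgl hc (right_mem_line x a) h hag.symm)
      have hwc : ¬ Commute w c := fun h =>
        hcx (hQ.foot_unique hx ha hw.1 hwl hc (left_mem_line x a) h hw.2.2.symm)
      obtain ⟨hd, hd'⟩ := F.fifth hQ hc hcx hca hcb
      set d := w * c * b * a * w * a * b * c * w with hddef
      simp only [Set.mem_insert_iff, Set.mem_singleton_iff, not_or] at hd'
      have h5 : ({x, a, b, c, d} : Set G).ncard = 5 := by
        rw [Set.ncard_insert_of_notMem (by simp [ha.2.1.symm, hb.1.2.1.symm, Ne.symm hcx, Ne.symm hd'.1]),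
          Set.ncard_insert_of_notMem (by simp [hb.2.2.1.symm, Ne.symm hca, Ne.symm hd'.2.1]),
          Set.ncard_insert_of_notMem (by simp [Ne.symm hcb, Ne.symm hd'.2.2.1]),
          Set.ncard_pair (Ne.symm hd'.2.2.2)]
      have hprod := hQ.prod_five hx ha hL5 (left_mem_line x a) (right_mem_line x a) hbl hc hd h5
      refine ⟨?_, ?_⟩
      · intro v hv
        simp only [relFour, T6.base, List.mem_cons, List.not_mem_nil, or_false] at hv
        rcases hv with rfl | rfl | rfl | rfl | rfl | rfl | rfl | rfl | rfl | rfl | rfl | rfl | rfl |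
            rfl | rfl | rfl <;>
          simp only [wprod, genOf, List.map_cons, List.map_nil, List.prod_cons, List.prod_nil, mul_one,
            List.getD_cons_zero, List.getD_cons_succ]
        · exact hcube hDt hxD hgD hxg
        · exact hsq hDt hxD hbD cxb
        · exact hsq hDt hxD hwD hw.2.2
        · exact hsq hDt hxD haD ha.2.2
        · exact hsq hDt hxD hcD cxc
        · exact hcube hDt hgD hbD fun h => hbg h.symm
        · exact hsq hDt hgD hwD hwg.symm
        · exact hsq hDt hgD haD hag.symm
        · exact hcube hDt hgD hcD hgc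
        · exact hcube hDt hbD hwD hbw
        · exact hsq hDt hbD haD cab.symm
        · exact hsq hDt hbD hcD cbc
        · exact hcube hDt hwD haD fun h => haw h.symm
        · exact hcube hDt hwD hcD hwc
        · exact hsq hDt haD hcD cac
        · simpa [hddef, mul_assoc] using hprod
      · intro S hxS haS hbS hwS hcS
        have e : ({x, a, b, c, d} : Set G) = Line D x a := by
          refine Set.eq_of_subset_of_ncard_le ?_ (by omega) (Set.toFinite _)
          simp only [Set.insert_subset_iff, Set.singleton_subset_iff]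
          exact ⟨left_mem_line x a, right_mem_line x a, hbl, hc, hd⟩
        rw [← e]
        rintro y (rfl | rfl | rfl | rfl | rfl)
        exacts [hxS, haS, hbS, hcS, mul_mem (mul_mem (mul_mem (mul_mem (mul_mem (mul_mem (mul_mem
          (mul_mem hwS hcS) hbS) haS) hwS) haS) hbS) hcS) hwS]
    rcases hr with hr | hr
    · -- three lines through a point
      obtain ⟨c, hc, hcne⟩ := Set.exists_mem_notMem_of_ncard_lt_ncard
        (s := ({x, a, b} : Set G)) (t := Line D x a) (by
          refine lt_of_le_of_lt ((Set.ncard_insert_le _ _).trans (Nat.succ_le_succ (Set.ncard_insert_le _ _))) ?_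
          simp [hL5]) (Set.toFinite _)
      simp only [Set.mem_insert_iff, Set.mem_singleton_iff, not_or] at hcne
      obtain ⟨hrel, hLS⟩ := common c hc hcne.1 hcne.2.1 hcne.2.2
      refine ⟨relFour, [x, g, b, w, a, c], Or.inr (Or.inl ⟨rfl, rfl⟩),
        by simp [hxD, hgD, hbD, hwD, haD, ((mem_line_iff hx ha).1 hc).1], hrel, ?_⟩
      refine htop _ fun u hu => ?_
      set S := closure {y | y ∈ [x, g, b, w, a, c]}
      have hmem : ∀ y ∈ [x, g, b, w, a, c], y ∈ S := fun y hy => subset_closure hy
      exact hQ.gen_all hx ha F.hg hxg hag (hmem g (by simp))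
        (hLS S (hmem x (by simp)) (hmem a (by simp)) (hmem b (by simp)) (hmem w (by simp)) (hmem c (by simp)))
        (F.card_three hQ (hmem a (by simp)) (hmem w (by simp)) (by omega)) hu
    · -- nine lines through a point
      obtain ⟨r, hrT, hrne⟩ := Set.exists_mem_notMem_of_ncard_lt_ncard
        (s := ({a, w, a * w * a} : Set G)) (t := X D x g) (by
          refine lt_of_le_of_lt ((Set.ncard_insert_le _ _).trans (Nat.succ_le_succ (Set.ncard_insert_le _ _))) ?_
          simp [hr]) (Set.toFinite _)
      simp only [Set.mem_insert_iff, Set.mem_singleton_iff, not_or] at hrne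
      obtain ⟨hra, hrw, hrawa⟩ := hrne
      have hrD : r ∈ D := hrT.1.1
      have tne := fun {u v : G} (hu : u ∈ X D x g) (hv : v ∈ X D x g) (h : u ≠ v) =>
        hQ.transversal_ne hx F.hg hxg hu hv h
      have nra : ¬ Commute r a := tne hrT F.mem_T_a hra
      have nrw : ¬ Commute r w := tne hrT F.mem_T_w hrw
      have nrawa : ¬ Commute r (a * w * a) := tne hrT (F.mem_T_awa hQ) hrawa
      have hbnb : b ∈ nb D x := hb.1
      -- twins of `a` commute with no other transversal point
      have twin : ∀ v ∈ Line D x a, v ≠ x → ∀ t ∈ X D x g, t ≠ a → ¬ Commute v t := by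
        intro v hv hvx t ht hta h
        obtain ⟨hvD, hxv, hav⟩ := (mem_line_iff hx ha).1 hv
        exact tne F.mem_T_a ht (Ne.symm hta) (hQ.hyp.trans_nb hx ha ⟨hvD, hvx, hxv⟩ ht.1 hav h)
      have nrb : ¬ Commute b r := twin b hbl hb.1.2.1 r hrT hra
      have hawaD := hT.2.1 a w hwD
      have hcw : ∀ v ∈ Line D x a, v ≠ x → v ≠ a → ¬ Commute r (v * w * v⁻¹) := by
        intro v hv hvx hva h
        obtain ⟨hvD, hxv, hav⟩ := (mem_line_iff hx ha).1 hv
        have hvw : ¬ Commute v w := twin v hv hvx w F.mem_T_w (fun e => F.ne_aw hQ e.symm)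
        have h1 : Commute (v * w * v⁻¹) (a * w * a⁻¹) := by
          have h2 := TSet.string_commute hDt hvD hwD haD (fun e => hvw e.symm) (fun e => haw e.symm)
            hav.symm
          rw [← commute_conj_iff v] at h2
          rwa [show v * (v * a * w * (v * a)⁻¹) * v⁻¹ = (v * v) * a * w * a⁻¹ * (v * v)⁻¹ by group,
            TSet.sq hDt hvD, one_mul, inv_one, mul_one] at h2
        have hm1 : v * w * v⁻¹ ∈ nb D x := by
          have := hQ.hyp.ctx.nb_conj v hw
          rwa [conj_eq_self_of_commute hxv.symm] at this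
        have hm2 : a * w * a⁻¹ ∈ nb D x := by
          have := hQ.hyp.ctx.nb_conj a hw
          rwa [conj_eq_self_of_commute ha.2.2.symm] at this
        have h3 := hQ.hyp.trans_nb hx hrT.1 hm1 hm2 h h1
        rw [TSet.inv hDt haD] at h3
        exact nrawa h3
      have nr_awa : ¬ Commute r (a * w * a⁻¹) := by rwa [TSet.inv hDt haD]
      have hpl : ∀ v ∈ TPlane.base, wprod (genOf [a, w, r]) v = 1 := by
        intro v hv
        simp only [TPlane.base, List.mem_cons, List.not_mem_nil, or_false] at hv
        rcases hv with rfl | rfl | rfl | rfl <;>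
          simp only [wprod, genOf, List.map_cons, List.map_nil, List.prod_cons, List.prod_nil, mul_one,
            List.getD_cons_zero, List.getD_cons_succ]
        · exact hcube hDt haD hwD haw
        · exact hcube hDt haD hrD fun h => nra h.symm
        · exact hcube hDt hwD hrD fun h => nrw h.symm
        · exact cube_conj hT hrD haD hwD nr_awa
      have hP := plane_words (TSet.sq hDt haD) (TSet.sq hDt hwD) (TSet.sq hDt hrD) hpl
      set C := a * r * a * w * r * a * w * a with hCdef
      have hCa : Commute C a := (hP 0 (by norm_num)).1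
      have hCw : Commute C w := (hP 1 (by norm_num)).1
      have hCr : Commute C r := (hP 2 (by norm_num)).1
      have hC3 := (hP 0 (by norm_num)).2
      have hCcom : ∀ {y : G}, Commute a y → Commute r y → Commute w y → Commute C y :=
        fun {y} h1 h2 h3 => (((((((h1.mul_left h2).mul_left h1).mul_left h3).mul_left h2).mul_left h1).mul_left
          h3).mul_left h1)
      have hCx : Commute C x := hCcom ha.2.2.symm hrT.1.2.2.symm hw.2.2.symm
      have hCg : Commute C g := hCcom hag hrT.2.2.2.symm hwg
      have hCl : ∀ v ∈ Line D x a, C * v * C⁻¹ ∈ Line D x a := by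
        intro v hv
        obtain ⟨hvD, hxv, hav⟩ := (mem_line_iff hx ha).1 hv
        refine (mem_line_iff hx ha).2 ⟨hT.2.1 C v hvD, ?_, ?_⟩
        · have := (commute_conj_iff C x v).2 hxv
          rwa [conj_eq_self_of_commute hCx] at this
        · have := (commute_conj_iff C a v).2 hav
          rwa [conj_eq_self_of_commute hCa] at this
      have hCb : ¬ Commute C b := by
        intro hCb
        have hfix : ∀ v ∈ Line D x a, Commute C v := by
          intro v hv
          by_contra hv'
          have hinj : ∀ {p : G}, C * v * C⁻¹ = p → Commute C p → False := fun {p} h hp => by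
            refine hv' ?_
            have e : v = p := by
              have h2 := congrArg (fun z => C⁻¹ * z * C) h
              simp only [show C⁻¹ * (C * v * C⁻¹) * C = v by group] at h2
              rw [h2, mul_assoc, ← hp.eq, inv_mul_cancel_left]
            exact e ▸ hp
          set v₁ := C * v * C⁻¹ with hv₁
          set v₂ := C * v₁ * C⁻¹ with hv₂
          have hv₁l := hCl v hv
          have hv₂l := hCl v₁ hv₁l
          have h3 : C * v₂ * C⁻¹ = v := by
            rw [hv₂, hv₁, show C * (C * (C * v * C⁻¹) * C⁻¹) * C⁻¹ = C ^ 3 * v * (C ^ 3)⁻¹ by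
              simp only [pow_succ, pow_zero, one_mul]; group, hC3, one_mul, inv_one, mul_one]
          have hsub : ({v, v₁, v₂} : Set G) ⊆ Line D x a \ {x, a, b} := by
            have hmv : ∀ y, (C * y * C⁻¹ = y) ↔ Commute C y := fun y => OddCoreLocal.commute_conj_self_iff
            have hnot : ∀ {y : G}, y ∈ ({x, a, b} : Set G) → Commute C y := by
              rintro y (rfl | rfl | rfl)
              exacts [hCx, hCa, hCb]
            rintro y (rfl | rfl | rfl)
            · exact ⟨hv, fun h => hv' (hnot h)⟩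
            · exact ⟨hv₁l, fun h => hinj rfl (hnot h)⟩
            · refine ⟨hv₂l, fun h => hv' ?_⟩
              have := hnot h
              rw [conj_eq_self_of_commute this] at h3
              exact h3 ▸ this
          have hne1 : v ≠ v₁ := fun e => hv' (OddCoreLocal.commute_conj_self_iff.1 e.symm)
          have hne2 : v₁ ≠ v₂ := fun e => hinj rfl (OddCoreLocal.commute_conj_self_iff.1 e.symm)
          have hne3 : v ≠ v₂ := by
            intro e
            rw [← e] at h3
            exact hne1 h3.symm
          have h1 := Set.ncard_le_ncard hsub (Set.toFinite _)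
          rw [Set.ncard_insert_of_notMem (by simp [hne1, hne3]), Set.ncard_pair hne2,
            Set.ncard_diff (by
              simp only [Set.insert_subset_iff, Set.singleton_subset_iff]
              exact ⟨left_mem_line x a, right_mem_line x a, hbl⟩) (Set.toFinite _), hL5,
            Set.ncard_insert_of_notMem (by simp [ha.2.1.symm, hb.1.2.1.symm]),
            Set.ncard_pair hb.2.2.1.symm] at h1
          omega
        have hcent : ∀ {y : G}, Commute C y → y ∈ centralizer ({C} : Set G) := fun h =>
          mem_centralizer_singleton_iff.2 h.eq.symm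
        have hC1 : C = 1 := hQ.eq_one_of_commute fun u hu =>
          (mem_centralizer_singleton_iff.1 (hQ.gen_all hx ha F.hg hxg hag (hcent hCg)
            (fun v hv => hcent (hfix v hv))
            (F.card_nine hQ (hcent hCa) (hcent hCw) (hcent hCr) hrT hra hrw hrawa (by omega)) hu)).symm
        have hcol : ∀ v ∈ TCollapse.base, wprod (genOf [a, b, w, r]) v = 1 := by
          intro v hv
          simp only [TCollapse.base, List.mem_cons, List.not_mem_nil, or_false] at hv
          have h1 : r * a * r ∈ X D x g := by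
            have h1 := hQ.hyp.ctx.nb_conj r F.mem_T_a.1
            have h2 := hQ.hyp.ctx.nb_conj r F.mem_T_a.2
            rw [conj_eq_self_of_commute hrT.1.2.2.symm] at h1
            rw [conj_eq_self_of_commute hrT.2.2.2.symm] at h2
            rw [TSet.inv hDt hrD] at h1 h2
            exact ⟨h1, h2⟩
          have h2 : r * (a * w * a) * r ∈ X D x g := by
            have h1 := hQ.hyp.ctx.nb_conj r (F.mem_T_awa hQ).1
            have h2 := hQ.hyp.ctx.nb_conj r (F.mem_T_awa hQ).2
            rw [conj_eq_self_of_commute hrT.1.2.2.symm] at h1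
            rw [conj_eq_self_of_commute hrT.2.2.2.symm] at h2
            rw [TSet.inv hDt hrD] at h1 h2
            exact ⟨h1, h2⟩
          have h3 : r * (a * w * a) * r ≠ a := by
            intro h
            have e : a * w * a = a * r * a := by
              calc a * w * a = (r * r) * (a * w * a) * (r * r) := by
                    rw [TSet.sq hDt hrD, one_mul, mul_one]
                _ = r * (r * (a * w * a) * r) * r := by simp only [mul_assoc]
                _ = a * r * a := by rw [h, TSet.braid hDt hrD haD nra]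
            exact hrw (mul_left_cancel (mul_right_cancel e)).symm
          have nb3 := twin b hbl hb.1.2.1 _ h2 h3
          rcases hv with rfl | rfl | rfl | rfl | rfl | rfl | rfl | rfl | rfl | rfl <;>
            simp only [wprod, genOf, List.map_cons, List.map_nil, List.prod_cons, List.prod_nil, mul_one,
              List.getD_cons_zero, List.getD_cons_succ]
          · exact hsq hDt haD hbD cab
          · exact hcube hDt haD hwD haw
          · exact hcube hDt haD hrD fun h => nra h.symm
          · exact hcube hDt hbD hwD hbw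
          · exact hcube hDt hbD hrD nrb
          · exact hcube hDt hwD hrD fun h => nrw h.symm
          · exact cube_conj hT hrD haD hwD nr_awa
          · exact cube_conj hT hrD hbD hwD (hcw b hbl hb.1.2.1 hb.2.2.1)
          · have := cube_of_not hDt hbD h2.1.1 nb3
            simpa [mul_assoc] using this
          · have e : a * (r * a * w * r * a * w) * a = 1 := by
              rw [show a * (r * a * w * r * a * w) * a = C by rw [hCdef]; simp only [mul_assoc]]
              exact hC1
            rw [mul_eq_one_iff_eq_inv, TSet.inv hDt haD] at e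
            have e' : a * (r * a * w * r * a * w) = a * 1 := by rw [mul_one]; exact e
            have := mul_left_cancel e'
            simpa [mul_assoc] using this
        have := collapse_words (by simp [TSet.sq hDt haD, TSet.sq hDt hbD, TSet.sq hDt hwD, TSet.sq hDt hrD])
          hcol
        rw [mul_eq_one_iff_eq_inv, TSet.inv hDt haD] at this
        exact hb.2.2.1 this
      set c := C * b * C⁻¹ with hcdef
      have hc : c ∈ Line D x a := hCl b hbl
      have hcb : c ≠ b := fun e => hCb (OddCoreLocal.commute_conj_self_iff.1 e)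
      have hcx : c ≠ x := fun e => hb.1.2.1 (by
        have e' : C * b * C⁻¹ = C * x * C⁻¹ := by rw [conj_eq_self_of_commute hCx]; exact e
        exact mul_left_cancel (mul_right_cancel e'))
      have hca : c ≠ a := fun e => hb.2.2.1 (by
        have e' : C * b * C⁻¹ = C * a * C⁻¹ := by rw [conj_eq_self_of_commute hCa]; exact e
        exact mul_left_cancel (mul_right_cancel e'))
      obtain ⟨hrel, hLS⟩ := common c hc hcx hca hcb
      have hcD := ((mem_line_iff hx ha).1 hc).1
      have nrc : ¬ Commute c r := twin c hc hcx r hrT hra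
      have hgc : ¬ Commute g c := fun h =>
        hca (hQ.foot_unique hx ha F.hg hgl hc (right_mem_line x a) h hag.symm)
      have hwc : ¬ Commute w c := fun h =>
        hcx (hQ.foot_unique hx ha hw.1 hwl hc (left_mem_line x a) h hw.2.2.symm)
      refine ⟨relFive, [x, g, b, w, a, c, r], Or.inr (Or.inr ⟨rfl, rfl⟩),
        by simp [hxD, hgD, hbD, hwD, haD, hcD, hrD], ?_, ?_⟩
      · have hsum := hrel [0, 4, 2, 5, 3, 5, 2, 4, 3, 4, 2, 5, 3] (by simp [relFour, T6.base])
        have cbc : Commute b c := hQ.line_clique hx ha hbl hc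
        have cxc : Commute x c := ((mem_line_iff hx ha).1 hc).2.1
        have cac : Commute a c := ((mem_line_iff hx ha).1 hc).2.2
        simp only [wprod, genOf, List.map_cons, List.map_nil, List.prod_cons, List.prod_nil, mul_one,
          List.getD_cons_zero, List.getD_cons_succ] at hsum
        intro v hv
        simp only [relFive, T7.base, List.mem_cons, List.not_mem_nil, or_false] at hv
        rcases hv with rfl | rfl | rfl | rfl | rfl | rfl | rfl | rfl | rfl | rfl | rfl | rfl | rfl |
            rfl | rfl | rfl | rfl | rfl | rfl | rfl | rfl | rfl | rfl | rfl | rfl | rfl <;>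
          simp only [wprod, genOf, List.map_cons, List.map_nil, List.prod_cons, List.prod_nil, mul_one,
            List.getD_cons_zero, List.getD_cons_succ]
        · exact hcube hDt hxD hgD hxg
        · exact hsq hDt hxD hbD cxb
        · exact hsq hDt hxD hwD hw.2.2
        · exact hsq hDt hxD haD ha.2.2
        · exact hsq hDt hxD hcD cxc
        · exact hsq hDt hxD hrD hrT.1.2.2
        · exact hcube hDt hgD hbD fun h => hbg h.symm
        · exact hsq hDt hgD hwD hwg.symm
        · exact hsq hDt hgD haD hag.symm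
        · exact hcube hDt hgD hcD hgc
        · exact hsq hDt hgD hrD hrT.2.2.2
        · exact hcube hDt hbD hwD hbw
        · exact hsq hDt hbD haD cab.symm
        · exact hsq hDt hbD hcD cbc
        · exact hcube hDt hbD hrD nrb
        · exact hcube hDt hwD haD fun h => haw h.symm
        · exact hcube hDt hwD hcD hwc
        · exact hcube hDt hwD hrD fun h => nrw h.symm
        · exact hsq hDt haD hcD cac
        · exact hcube hDt haD hrD fun h => nra h.symm
        · exact hcube hDt hcD hrD nrc
        · exact hsum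
        · exact cube_conj hT hrD haD hwD nr_awa
        · exact cube_conj hT hrD hbD hwD (hcw b hbl hb.1.2.1 hb.2.2.1)
        · exact cube_conj hT hrD hcD hwD (hcw c hc hcx hca)
        · have e : C * b * C⁻¹ * c = 1 := TSet.sq hDt hcD
          simpa [hCdef, mul_inv_rev, TSet.inv hDt haD, TSet.inv hDt hwD, TSet.inv hDt hrD, mul_assoc]
            using e
      · refine htop _ fun u hu => ?_
        set S := closure {y | y ∈ [x, g, b, w, a, c, r]}
        have hmem : ∀ y ∈ [x, g, b, w, a, c, r], y ∈ S := fun y hy => subset_closure hy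
        exact hQ.gen_all hx ha F.hg hxg hag (hmem g (by simp))
          (hLS S (hmem x (by simp)) (hmem a (by simp)) (hmem b (by simp)) (hmem w (by simp)) (hmem c (by simp)))
          (F.card_nine hQ (hmem a (by simp)) (hmem w (by simp)) (hmem r (by simp)) hrT hra hrw hrawa
            (by omega)) hu

end Cfsg.Agent.FischerSolvable
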