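import Cfsg.Agent.Lib.FischerSolvable.Lines

/-!
The number of lines through a point of the quadrangle: three, or nine with five points on a line.
-/

set_option autoImplicit false
set_option linter.style.haveILetI false

namespace Cfsg.Agent.FischerSolvable

open Cfsg.Agent Cfsg.Agent.Fischer Subgroup
open Cfsg.Agent.Fischer.OddCoreLocal (Ctx X)
open Cfsg.Agent.Fischer.LocalSymThree (nb nb_symm)

variable {G : Type*} [Group G] {D : Set G}

namespace Quad

variable (hQ : Quad D) [Finite G]
include hQ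

theorem transversal_ne {x y u v : G} (hx : x ∈ D) (hy : y ∈ D) (hxy : ¬ Commute x y)
    (hu : u ∈ X D x y) (hv : v ∈ X D x y) (hne : u ≠ v) : ¬ Commute u v := by
  intro h
  have hvl : v ∈ Line D x u := (mem_line_iff hx hu.1).2 ⟨hv.1.1, hv.1.2.2, h⟩
  have := hQ.on_line hx hu.1 (right_mem_line x u) hvl hne.symm hy hu.2.2.2.symm hv.2.2.2.symm
  exact hxy ((mem_line_iff hx hu.1).1 this).2.1

theorem card_transversal {x y x' y' : G} (hx : x ∈ D) (hy : y ∈ D) (hxy : ¬ Commute x y)
    (hx' : x' ∈ D) (hy' : y' ∈ D) (hxy' : ¬ Commute x' y') :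
    (X D x y).ncard = (X D x' y').ncard := by
  obtain ⟨g, rfl⟩ := hQ.hyp.ctx.trans x hx x' hx'
  obtain ⟨m, hm, hmy⟩ := hQ.hyp.ctx.trn _ hx' _ (hQ.hyp.ctx.tg.2.1 g y hy) y' hy'
    (fun h => hxy ((commute_conj_iff g x y).1 h)) hxy'
  have h1 : m * g * x * (m * g)⁻¹ = g * x * g⁻¹ := by
    rw [show m * g * x * (m * g)⁻¹ = m * (g * x * g⁻¹) * m⁻¹ by group]
    exact OddCoreLocal.commute_conj_self_iff.2 (commute_of_mem_commClosure hm)
  have h2 : m * g * y * (m * g)⁻¹ = y' := by
    rw [← hmy]; group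
  rw [show X D (g * x * g⁻¹) y' = (fun z => m * g * z * (m * g)⁻¹) '' X D x y from
      (by rw [hQ.hyp.ctx.image_X, h1, h2]),
    Set.ncard_image_of_injective _ (fun a b h => mul_left_cancel (mul_right_cancel h))]

/-- The feet of the lines through `x` are the common neighbours with `y`. -/
theorem card_nb_eq {x y a : G} (hx : x ∈ D) (hy : y ∈ D) (hxy : ¬ Commute x y) (ha : a ∈ nb D x) :
    (nb D x).ncard = (X D x y).ncard * (insert a (X D x a)).ncard := by
  classical
  have hN := Set.toFinite (nb D x)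
  have hT := Set.toFinite (X D x y)
  rw [Set.ncard_eq_toFinset_card _ hN, Set.ncard_eq_toFinset_card _ hT]
  set s := (insert a (X D x a)).ncard with hs
  let foot : G → G := fun v =>
    if h : ∃ p ∈ X D x y, Commute v p then h.choose else v
  have hex : ∀ v ∈ nb D x, ∃ p ∈ X D x y, Commute v p := by
    intro v hv
    have hyl : y ∉ Line D x v := fun h => hxy ((mem_line_iff hx hv).1 h).2.1
    obtain ⟨e, he, hye⟩ := hQ.exists_foot hx hv hy hyl
    have h := (mem_line_iff hx hv).1 he
    exact ⟨e, ⟨⟨h.1, fun e' => hxy (e' ▸ hye).symm, h.2.1⟩, h.1,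
      fun e' => hxy (e' ▸ h.2.1), hye⟩, h.2.2⟩
  have hmaps : ∀ v ∈ hN.toFinset, foot v ∈ hT.toFinset := by
    intro v hv
    rw [Set.Finite.mem_toFinset] at hv ⊢
    simp only [foot, dif_pos (hex v hv)]
    exact (hex v hv).choose_spec.1
  rw [Finset.card_eq_sum_card_fiberwise hmaps, Finset.sum_const_nat (m := s) fun p hp => ?_]
  rw [Set.Finite.mem_toFinset] at hp
  have hfib : (hN.toFinset.filter fun v => foot v = p) =
      (Set.toFinite (insert p (X D x p))).toFinset := by
    ext v
    simp only [Finset.mem_filter, Set.Finite.mem_toFinset]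
    constructor
    · rintro ⟨hv, hfv⟩
      simp only [foot, dif_pos (hex v hv)] at hfv
      have hvp := (hex v hv).choose_spec.2
      rw [hfv] at hvp
      by_cases e : v = p
      · exact Or.inl e
      · exact Or.inr ⟨hv, hv.1, e, hvp.symm⟩
    · intro hv
      have hv' : v ∈ nb D x ∧ Commute v p := by
        rcases hv with rfl | hv
        exacts [⟨hp.1, Commute.refl _⟩, ⟨hv.1, hv.2.2.2.symm⟩]
      refine ⟨hv'.1, ?_⟩
      simp only [foot, dif_pos (hex v hv'.1)]
      by_contra hne
      obtain ⟨h1, h2⟩ := (hex v hv'.1).choose_spec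
      exact hQ.transversal_ne hx hy hxy h1 hp hne
        (hQ.hyp.trans_nb hx h1.1 hv'.1 hp.1 h2.symm hv'.2)
  rw [hfib, ← Set.ncard_eq_toFinset_card]
  rw [hs, Set.ncard_insert_of_notMem (fun h => h.2.2.1 rfl) (Set.toFinite _),
    Set.ncard_insert_of_notMem (fun h => h.2.2.1 rfl) (Set.toFinite _),
    hQ.hyp.ctx.card_X hx hp.1 hx ha]

theorem exists_pow_three {x y : G} (hx : x ∈ D) (hy : y ∈ D) (hxy : ¬ Commute x y)
    (hne : (X D x y).Nonempty) : ∃ n, (X D x y).ncard = 3 ^ n := by
  refine OddCoreLocal.exists_card_eq_three_pow hQ.tset (fun u hu => hu.1.1) (fun u hu v hv => ?_)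
    (fun u hu v hv h => hQ.transversal_ne hx hy hxy hu hv h) hne
  have h1 := hQ.hyp.ctx.nb_conj u hv.1
  have h2 := hQ.hyp.ctx.nb_conj u hv.2
  rw [conj_eq_self_of_commute hu.1.2.2.symm] at h1
  rw [conj_eq_self_of_commute hu.2.2.2.symm] at h2
  exact ⟨h1, h2⟩

/-- The counting inequality. -/
theorem higman {x y a : G} (hx : x ∈ D) (hy : y ∈ D) (hxy : ¬ Commute x y) (ha : a ∈ nb D x)
    {r s : ℕ} (hr : (X D x y).ncard = r) (hs : (insert a (X D x a)).ncard = s) :
    2 ≤ r ∧ ∃ U l : ℕ, l * r = r * s * (r * s - s) ∧ l + r = U + 1 + r * s ∧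
      (r * (r * s - 2 * s)) ^ 2 ≤ U * (r * (r * s - 2 * s) + r * (r - 1) * (r - 2)) := by
  classical
  haveI := Fintype.ofFinite G
  have hr2 : 2 ≤ r := by
    obtain ⟨u, hu, hau⟩ := hQ.exists_other_line hx ha
    have hsub : insert u (insert a (X D x a)) ⊆ nb D x := by
      rintro v (rfl | rfl | hv)
      exacts [hu, ha, hv.1]
    have h1 := Set.ncard_le_ncard hsub (Set.toFinite _)
    have hun : u ∉ insert a (X D x a) := by
      rintro (rfl | h)
      exacts [hau (Commute.refl _), hau h.2.2.2]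
    rw [Set.ncard_insert_of_notMem hun (Set.toFinite _), hQ.card_nb_eq hx hy hxy ha, hr, hs] at h1
    by_contra hlt
    have : r * s ≤ 1 * s := Nat.mul_le_mul_right s (by omega)
    omega
  refine ⟨hr2, ?_⟩
  let N : G → Finset G := fun d => Finset.univ.filter (fun v => v ∈ nb D d)
  have hNcard : ∀ d, (N d).card = (nb D d).ncard := fun d => by
    rw [Set.ncard_eq_toFinset_card']; congr 1; ext v; simp [N]
  have hXcard : ∀ d e, ((N d).filter (fun v => v ∈ nb D e)).card = (X D d e).ncard := fun d e => by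
    rw [← Set.ncard_coe_finset]; congr 1; ext v; simp [N, X]
  have hk : ∀ d ∈ D, (nb D d).ncard = r * s := fun d hd => by
    rw [hQ.hyp.ctx.card_nb hd hx, hQ.card_nb_eq hx hy hxy ha, hr, hs]
  have hrr : ∀ d ∈ D, ∀ e ∈ D, ¬ Commute d e → (X D d e).ncard = r := fun d hd e he h => by
    rw [hQ.card_transversal hd he h hx hy hxy, hr]
  -- the part of a residue commuting with an adjacent point
  have hnear : ∀ d ∈ D, ∀ p ∈ nb D d, ((N p).filter (fun v => Commute d v)).card = s := by
    intro d hd p hp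
    have e : ((N p).filter (fun v => Commute d v)) = (Set.toFinite (insert d (X D d p))).toFinset := by
      ext v
      simp only [N, Finset.mem_filter, Finset.mem_univ, true_and, Set.Finite.mem_toFinset]
      constructor
      · rintro ⟨hv, hdv⟩
        by_cases e : v = d
        exacts [Or.inl e, Or.inr ⟨⟨hv.1, e, hdv⟩, hv⟩]
      · rintro (rfl | hv)
        exacts [⟨nb_symm hd hp, Commute.refl _⟩, ⟨hv.2, hv.1.2.2⟩]
    rw [e, ← Set.ncard_eq_toFinset_card,
      Set.ncard_insert_of_notMem (fun h => h.1.2.1 rfl) (Set.toFinite _), hQ.hyp.ctx.card_X hd hp hx ha,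
      ← hs, Set.ncard_insert_of_notMem (fun h => h.2.2.1 rfl) (Set.toFinite _)]
  set B : Finset G := Finset.univ.filter (fun v => v ∈ D ∧ ¬ Commute x v) with hB
  set U : Finset G := B.filter (fun v => ¬ Commute y v) with hU
  refine ⟨U.card, B.card, ?_, ?_, ?_⟩
  · -- pairs of an adjacent and a non-adjacent point
    have h1 : ∑ u ∈ B, ((N x).filter (fun p => p ∈ nb D u)).card = B.card * r := by
      refine Finset.sum_const_nat fun u hu => ?_
      simp only [hB, Finset.mem_filter, Finset.mem_univ, true_and] at hu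
      rw [hXcard, hrr x hx u hu.1 hu.2]
    rw [← h1]
    simp only [Finset.card_filter]
    rw [Finset.sum_comm]
    have h2 : ∀ p ∈ N x, (∑ u ∈ B, if p ∈ nb D u then 1 else 0) = r * s - s := by
      intro p hp
      simp only [N, Finset.mem_filter, Finset.mem_univ, true_and] at hp
      rw [← Finset.card_filter]
      have e : B.filter (fun u => p ∈ nb D u) = (N p).filter (fun v => ¬ Commute x v) := by
        ext u
        simp only [hB, N, Finset.mem_filter, Finset.mem_univ, true_and]
        exact ⟨fun ⟨⟨hu, hxu⟩, hpu⟩ => ⟨nb_symm hu hpu, hxu⟩,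
          fun ⟨hpu, hxu⟩ => ⟨⟨hpu.1, hxu⟩, nb_symm hp.1 hpu⟩⟩
      have := Finset.card_filter_add_card_filter_not (s := N p) (fun v => Commute x v)
      rw [hnear x hx p hp, hNcard, hk p hp.1] at this
      rw [e]
      omega
    rw [Finset.sum_const_nat h2, hNcard, hk x hx]
  · have hBy : B.filter (fun v => Commute y v) = insert y ((N y).filter (fun v => ¬ Commute x v)) := by
      ext v
      simp only [hB, N, Finset.mem_filter, Finset.mem_univ, true_and, Finset.mem_insert]
      constructor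
      · rintro ⟨⟨hv, hxv⟩, hyv⟩
        by_cases e : v = y
        exacts [Or.inl e, Or.inr ⟨⟨hv, e, hyv⟩, hxv⟩]
      · rintro (rfl | ⟨hv, hxv⟩)
        exacts [⟨⟨hy, hxy⟩, Commute.refl _⟩, ⟨⟨hv.1, hxv⟩, hv.2.2⟩]
    have hyx : ((N y).filter (fun v => Commute x v)).card = r := by
      rw [← hrr y hy x hx (fun h => hxy h.symm), ← hXcard y x]
      congr 1
      ext v
      simp only [N, Finset.mem_filter, Finset.mem_univ, true_and, and_congr_right_iff]
      exact fun hv => ⟨fun h => ⟨hv.1, fun e => hxy (e ▸ hv.2.2).symm, h⟩, fun h => h.2.2⟩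
    have h1 := Finset.card_filter_add_card_filter_not (s := B) (fun v => Commute y v)
    have h2 := Finset.card_filter_add_card_filter_not (s := N y) (fun v => Commute x v)
    rw [hyx, hNcard, hk y hy] at h2
    rw [hBy, Finset.card_insert_of_notMem (by simp [N, nb]), ← hU] at h1
    omega
  · set T : Finset G := (N x).filter (fun v => v ∈ nb D y) with hT
    have hTcard : T.card = r := by rw [hT, hXcard, hr]
    have hTmem : ∀ {p : G}, p ∈ T ↔ p ∈ X D x y := fun {p} => by
      simp [hT, N, X, Finset.mem_filter]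
    let n : G → ℕ := fun u => (T.filter (fun p => p ∈ nb D u)).card
    have hUmem : ∀ {u : G}, u ∈ U ↔ u ∈ D ∧ ¬ Commute x u ∧ ¬ Commute y u := fun {u} => by
      simp [hU, hB, and_assoc]
    have hone : ∀ p ∈ T, (U.filter (fun u => p ∈ nb D u)).card = r * s - 2 * s := by
      intro p hp
      rw [hTmem] at hp
      have e : U.filter (fun u => p ∈ nb D u) =
          ((N p).filter (fun v => ¬ Commute x v)).filter (fun v => ¬ Commute y v) := by
        ext u
        simp only [Finset.mem_filter, hUmem, N, Finset.mem_univ, true_and]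
        exact ⟨fun ⟨⟨hu, hxu, hyu⟩, hpu⟩ => ⟨⟨nb_symm hu hpu, hxu⟩, hyu⟩,
          fun ⟨⟨hpu, hxu⟩, hyu⟩ => ⟨⟨hpu.1, hxu, hyu⟩, nb_symm hp.1.1 hpu⟩⟩
      have e2 : ((N p).filter (fun v => ¬ Commute x v)).filter (fun v => Commute y v) =
          (N p).filter (fun v => Commute y v) := by
        ext v
        simp only [N, Finset.mem_filter, Finset.mem_univ, true_and]
        refine ⟨fun h => ⟨h.1.1, h.2⟩, fun ⟨hpv, hyv⟩ => ⟨⟨hpv, fun hxv => ?_⟩, hyv⟩⟩
        exact hQ.transversal_ne hx hy hxy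
          ⟨⟨hpv.1, by rintro rfl; exact hxy hyv.symm, hxv⟩, hpv.1, by rintro rfl; exact hxy hxv, hyv⟩
          hp hpv.2.1 hpv.2.2.symm
      have h1 := Finset.card_filter_add_card_filter_not (s := N p) (fun v => Commute x v)
      have h2 := Finset.card_filter_add_card_filter_not
        (s := (N p).filter (fun v => ¬ Commute x v)) (fun v => Commute y v)
      rw [hnear x hx p hp.1, hNcard, hk p hp.1.1] at h1
      rw [e2, hnear y hy p hp.2, ← e] at h2
      omega
    have htwo : ∀ p ∈ T, ∀ p' ∈ T, p ≠ p' →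
        (U.filter (fun u => p ∈ nb D u ∧ p' ∈ nb D u)).card = r - 2 := by
      intro p hp p' hp' hne
      rw [hTmem] at hp hp'
      have hnc := hQ.transversal_ne hx hy hxy hp hp' hne
      have e : U.filter (fun u => p ∈ nb D u ∧ p' ∈ nb D u) =
          ((N p).filter (fun v => v ∈ nb D p')) \ {x, y} := by
        ext u
        simp only [Finset.mem_filter, hUmem, N, Finset.mem_univ, true_and, Finset.mem_sdiff,
          Finset.mem_insert, Finset.mem_singleton, not_or]
        constructor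
        · rintro ⟨⟨hu, hxu, hyu⟩, h1, h2⟩
          exact ⟨⟨nb_symm hu h1, nb_symm hu h2⟩, fun e => hxu (e ▸ Commute.refl _),
            fun e => hyu (e ▸ Commute.refl _)⟩
        · rintro ⟨⟨h1, h2⟩, hux, huy⟩
          refine ⟨⟨h1.1, fun hc => ?_, fun hc => ?_⟩, nb_symm hp.1.1 h1, nb_symm hp'.1.1 h2⟩
          · exact hnc (hQ.hyp.trans_nb hx hp.1 ⟨h1.1, hux, hc⟩ hp'.1 h1.2.2 h2.2.2.symm)
          · exact hnc (hQ.hyp.trans_nb hy hp.2 ⟨h1.1, huy, hc⟩ hp'.2 h1.2.2 h2.2.2.symm)
      rw [e, Finset.card_sdiff_of_subset, hXcard, hrr p hp.1.1 p' hp'.1.1 hnc,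
        Finset.card_pair (show x ≠ y by rintro rfl; exact hxy (Commute.refl _))]
      intro v hv
      simp only [Finset.mem_insert, Finset.mem_singleton] at hv
      simp only [N, Finset.mem_filter, Finset.mem_univ, true_and]
      rcases hv with rfl | rfl
      exacts [⟨nb_symm hx hp.1, nb_symm hx hp'.1⟩, ⟨nb_symm hy hp.2, nb_symm hy hp'.2⟩]
    have hA : ∑ u ∈ U, n u = r * (r * s - 2 * s) := by
      simp only [n, Finset.card_filter]
      rw [Finset.sum_comm]
      simp only [← Finset.card_filter]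
      rw [Finset.sum_const_nat hone, hTcard]
    have hB2 : ∑ u ∈ U, n u ^ 2 = r * (r * s - 2 * s) + r * (r - 1) * (r - 2) := by
      have e : ∀ u, n u ^ 2 = ∑ p ∈ T, ∑ p' ∈ T, if p ∈ nb D u ∧ p' ∈ nb D u then 1 else 0 := by
        intro u
        simp only [n, pow_two, Finset.card_filter, Finset.sum_mul, Finset.mul_sum]
        refine Finset.sum_congr rfl fun p _ => Finset.sum_congr rfl fun p' _ => ?_
        by_cases h1 : p ∈ nb D u <;> by_cases h2 : p' ∈ nb D u <;> simp [h1, h2]
      simp only [e]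
      rw [Finset.sum_comm]
      have hin : ∀ p ∈ T, (∑ u ∈ U, ∑ p' ∈ T, if p ∈ nb D u ∧ p' ∈ nb D u then 1 else 0) =
          (r * s - 2 * s) + (r - 1) * (r - 2) := by
        intro p hp
        rw [Finset.sum_comm, ← Finset.add_sum_erase T _ hp]
        congr 1
        · simp only [and_self, ← Finset.card_filter]
          exact hone p hp
        · rw [Finset.sum_const_nat (m := r - 2), Finset.card_erase_of_mem hp, hTcard]
          intro p' hp'
          obtain ⟨h1, h2⟩ := Finset.mem_erase.1 hp'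
          rw [← Finset.card_filter]
          exact htwo p hp p' h2 (Ne.symm h1)
      rw [Finset.sum_const_nat hin, hTcard, Nat.mul_add, Nat.mul_assoc]
    rw [← hB2, ← hA]
    exact sq_sum_le_card_mul_sum_sq

/-- The number of lines through a point. -/
theorem params {x y a : G} (hx : x ∈ D) (hy : y ∈ D) (hxy : ¬ Commute x y) (ha : a ∈ nb D x) :
    ((insert a (X D x a)).ncard = 2 ∧ (X D x y).ncard = 3) ∨
      ((insert a (X D x a)).ncard = 4 ∧ ((X D x y).ncard = 3 ∨ (X D x y).ncard = 9)) := by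
  obtain ⟨k, hk⟩ := card_class hQ.hyp hx ha
  have hle := hQ.ncard_line_le hx ha
  rw [ncard_line hx ha] at hle
  have hins : (insert a (X D x a)).ncard = (X D x a).ncard + 1 :=
    Set.ncard_insert_of_notMem (fun h => h.2.2.1 rfl) (Set.toFinite _)
  have hpos : 1 ≤ (X D x a).ncard := (Set.ncard_pos (Set.toFinite _)).2 (hQ.ne x hx a ha)
  set s := (insert a (X D x a)).ncard with hs
  have hs24 : s = 2 ∨ s = 4 := by
    have hk3 : k < 3 := by
      by_contra h
      have : 2 ^ 3 ≤ 2 ^ k := Nat.pow_le_pow_right (by norm_num) (by omega)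
      omega
    interval_cases k <;> omega
  obtain ⟨hr2, U, l, h1, h2, h3⟩ := hQ.higman hx hy hxy ha rfl rfl
  rw [← hs] at h1 h2 h3
  obtain ⟨n, hn⟩ := hQ.exists_pow_three hx hy hxy
    (Set.nonempty_of_ncard_ne_zero (by omega))
  set r := (X D x y).ncard with hr
  have hl : l = s * (r * s - s) := by
    refine Nat.eq_of_mul_eq_mul_right (show 0 < r by omega) ?_
    rw [h1]; ring
  rcases hs24 with e | e <;> rw [e] at h1 h2 h3 hl ⊢
  · left
    refine ⟨rfl, ?_⟩
    have hr5 : r ≤ 5 := by
      obtain ⟨q, hq⟩ : ∃ q, r = q + 2 := ⟨r - 2, by omega⟩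
      rw [hq] at h2 h3 hl ⊢
      have e1 : (q + 2) * 2 - 2 * 2 = 2 * q := by omega
      have e2 : (q + 2) * 2 - 2 = 2 * q + 2 := by omega
      rw [e1, show q + 2 - 1 = q + 1 by omega, show q + 2 - 2 = q by omega] at h3
      rw [e2] at hl
      have hUeq : U = 3 * q + 1 := by omega
      rw [hUeq] at h3
      by_contra hc
      obtain ⟨j, rfl⟩ : ∃ j, q = j + 4 := ⟨q - 4, by omega⟩
      ring_nf at h3
      nlinarith [Nat.zero_le (j ^ 2), Nat.zero_le (j ^ 3), Nat.zero_le (j ^ 4)]
    have hn2 : n < 2 := by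
      by_contra h
      have : 3 ^ 2 ≤ 3 ^ n := Nat.pow_le_pow_right (by norm_num) (by omega)
      omega
    interval_cases n <;> omega
  · right
    refine ⟨rfl, ?_⟩
    have hr17 : r ≤ 17 := by
      obtain ⟨q, hq⟩ : ∃ q, r = q + 2 := ⟨r - 2, by omega⟩
      rw [hq] at h2 h3 hl ⊢
      have e1 : (q + 2) * 4 - 2 * 4 = 4 * q := by omega
      have e2 : (q + 2) * 4 - 4 = 4 * q + 4 := by omega
      rw [e1, show q + 2 - 1 = q + 1 by omega, show q + 2 - 2 = q by omega] at h3
      rw [e2] at hl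
      have hUeq : U = 13 * q + 9 := by omega
      rw [hUeq] at h3
      by_contra hc
      obtain ⟨j, rfl⟩ : ∃ j, q = j + 16 := ⟨q - 16, by omega⟩
      ring_nf at h3
      nlinarith [Nat.zero_le (j ^ 2), Nat.zero_le (j ^ 3), Nat.zero_le (j ^ 4)]
    have hn3 : n < 3 := by
      by_contra h
      have : 3 ^ 3 ≤ 3 ^ n := Nat.pow_le_pow_right (by norm_num) (by omega)
      omega
    interval_cases n <;> omega

end Quad

end Cfsg.Agent.FischerSolvable
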