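import Cfsg.Agent.Lib.FischerSolvable.Model
import Cfsg.Agent.Lib.FischerSolvable.ModelData
import Cfsg.Agent.Lib.FischerSolvable.Bound
import Cfsg.Agent.Lib.Classical.HermSU

/-!
S₆, U₄(2) and U₅(2) are generated by involutions satisfying the relators.
-/

set_option autoImplicit false
set_option maxRecDepth 100000

namespace Cfsg.Agent.FischerSolvable

open Cfsg Cfsg.Agent Cfsg.Agent.CosetCert Cfsg.Agent.RigidGraph.He

/-- Evidence that a group is a quotient target. -/
def IsTarget (Γ : Type) [Group Γ] (k : ℕ) (rel : List (List ℕ)) (N : ℕ) : Prop :=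
  Nat.card Γ = N ∧ ∃ m : ℕ → Γ, (∀ i, m i * m i = 1) ∧ (∀ w ∈ rel, wprod m w = 1) ∧
    Subgroup.closure (m '' {i | i < k}) = ⊤

theorem target_six : IsTarget (Equiv.Perm (Fin 6)) 5 relSix 720 := by
  let m : ℕ → Equiv.Perm (Fin 6) := fun i =>
    if h : i < 5 then Equiv.swap (Fin.castSucc ⟨i, h⟩) (Fin.succ ⟨i, h⟩) else 1
  refine ⟨by rw [Nat.card_perm, Nat.card_fin]; rfl, m, fun i => ?_, ?_, ?_⟩
  · simp only [m]
    split_ifs with h
    exacts [Equiv.swap_mul_self _ _, one_mul 1]
  · decide +kernel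
  · refine eq_top_iff.2 fun σ _ => ?_
    refine (Submonoid.closure_le (S := (Subgroup.closure (m '' {i | i < 5})).toSubmonoid)).2 ?_
      (show σ ∈ Submonoid.closure (Set.range fun i : Fin 5 => Equiv.swap i.castSucc i.succ) by
        rw [Equiv.Perm.mclosure_swap_castSucc_succ]; trivial)
    rintro _ ⟨i, rfl⟩
    exact Subgroup.subset_closure ⟨i, i.2, by simp only [m]; rw [dif_pos i.2]⟩

theorem exists_code : ∀ (n : ℕ) (v : Fin n → K4), ∃ c < 4 ^ n, Model.vec n c = v
  | 0, _ => ⟨0, by norm_num, funext fun i => i.elim0⟩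
  | n + 1, v => by
    have h : ∀ x : K4, ∃ d < 4, K4.ofDigit d = x := by decide
    obtain ⟨d, hd, hd'⟩ := h (v 0)
    obtain ⟨c, hc, hc'⟩ := exists_code n (Fin.tail v)
    refine ⟨d + 4 * c, by rw [pow_succ]; omega, funext (Fin.cases ?_ fun i => ?_)⟩
    · rw [Model.vec, Fin.val_zero, pow_zero, Nat.div_one, show (d + 4 * c) % 4 = d by omega, hd']
    · have e := congrFun hc' i
      rw [Model.vec] at e
      rw [Model.vec, Fin.val_succ, pow_succ', ← Nat.div_div_eq_div_mul,
        show (d + 4 * c) / 4 = c by omega, e, Fin.tail]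

theorem weight_four : ∀ c < 4 ^ 4, Model.weight 4 c % 2 = 1 →
    hermForm 4 K4 2 (Model.vec 4 c) (Model.vec 4 c) ≠ 0 := by decide +kernel

theorem weight_five : ∀ c < 4 ^ 5, Model.weight 5 c % 2 = 1 →
    hermForm 5 K4 2 (Model.vec 5 c) (Model.vec 5 c) ≠ 0 := by decide +kernel

theorem four_rels : Model.relsOK 4 MFour.vecs relFour MFour.chains = true := by decide +kernel

theorem four_orbit : Model.orbitOK 4 MFour.vecs MFour.vecs MFour.orbit = true := by decide +kernel

theorem four_cover : Model.coverOK 4 MFour.vecs MFour.orbit = true := by decide +kernel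

theorem five_rels : Model.relsOK 5 MFive.vecs relFive MFive.chains = true := by decide +kernel

theorem five_orbit : Model.orbitOK 5 MFive.vecs MFive.vecs MFive.orbit = true := by decide +kernel

theorem five_cover : Model.coverOK 5 MFive.vecs MFive.orbit = true := by decide +kernel

theorem target_psu {n : ℕ} (hn : 4 ≤ n) {V : List ℕ} {rel : List (List ℕ)} {C : List (List (List ℕ))}
    {t : List (ℕ × ℕ × ℕ)} (hV : ∀ j < V.length, hermForm n K4 2 (Model.gv n V j) (Model.gv n V j) = 0)
    (hlt : ∀ w ∈ rel, ∀ a ∈ w, a < V.length) (hunit : ∀ i : Fin n, Model.vec n (4 ^ (i : ℕ)) = Pi.single i 1)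
    (hR : Model.relsOK n V rel C = true) (horb : Model.orbitOK n V V t = true)
    (hcov : Model.coverOK n V t = true)
    (hvw : ∀ c < 4 ^ n, Model.weight n c % 2 = 1 → hermForm n K4 2 (Model.vec n c) (Model.vec n c) ≠ 0) :
    IsTarget (Cfsg.PSU n K4 2) V.length rel (Nat.card (Cfsg.PSU n K4 2)) := by
  have hn0 : 0 < n := by omega
  let π : Cfsg.SU n K4 2 →* Cfsg.PSU n K4 2 := QuotientGroup.mk' _
  refine ⟨rfl, fun i => π (Model.gen n V i), fun i => ?_, fun w hw => ?_, ?_⟩
  · show π _ * π _ = 1
    rw [← map_mul, Model.gen_sq hn0 hV, map_one]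
  · have h := congrArg π (Model.rels_spec hn0 hV hunit rel C hR hlt w hw)
    rw [map_one, wprod, map_list_prod, List.map_map] at h
    exact h
  · have h := congrArg (Subgroup.map π)
      (Model.closure_gen hn0 hV (by omega) (by omega) hcov horb (exists_code n) hvw)
    rw [MonoidHom.map_closure, ← Set.image_comp,
      Subgroup.map_top_of_surjective _ (QuotientGroup.mk'_surjective _)] at h
    exact h

theorem isSimple_psu {n : ℕ} (hn : 4 ≤ n) : IsSimpleGroup (Cfsg.PSU n K4 2) := by
  obtain ⟨σ, -, hf⟩ := Model.exists_form (n := n) (by omega)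
  exact UnitaryStd.isSimpleGroup_psu hf (by omega) (fun h => absurd h (by omega))

theorem card_psu_four : Nat.card (Cfsg.PSU 4 K4 2) = 25920 := by
  obtain ⟨σ, hσ, hne, hinv, hfix, -⟩ := HermStd.exists_sigma (q := 2) (F := K4) K4.card_K4
  have h := HermSU.card_PSU_mul (n := 4) hne hinv hσ (by norm_num) hfix
  rw [HermStd.card_GU hne hinv hσ 4 hfix] at h
  simp only [Finset.prod_range_succ, Finset.prod_range_zero] at h
  norm_num [Nat.even_iff] at h
  omega

theorem target_four : IsTarget (Cfsg.PSU 4 K4 2) 6 relFour 25920 := by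
  rw [← card_psu_four]
  exact target_psu le_rfl (V := MFour.vecs) (by decide +kernel) (by decide +kernel) (by decide +kernel)
    four_rels four_orbit four_cover weight_four

theorem card_psu_five : Nat.card (Cfsg.PSU 5 K4 2) = 13685760 := by
  obtain ⟨σ, hσ, hne, hinv, hfix, -⟩ := HermStd.exists_sigma (q := 2) (F := K4) K4.card_K4
  have h := HermSU.card_PSU_mul (n := 5) hne hinv hσ (by norm_num) hfix
  rw [HermStd.card_GU hne hinv hσ 5 hfix] at h
  simp only [Finset.prod_range_succ, Finset.prod_range_zero] at h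
  norm_num [Nat.even_iff] at h
  omega

theorem target_five : IsTarget (Cfsg.PSU 5 K4 2) 7 relFive 13685760 := by
  rw [← card_psu_five]
  exact target_psu (by norm_num) (V := MFive.vecs) (by decide +kernel) (by decide +kernel) (by decide +kernel)
    five_rels five_orbit five_cover weight_five

end Cfsg.Agent.FischerSolvable
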