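import Cfsg.Agent.Lib.FischerSolvable.Main
import Cfsg.Agent.Lib.FischerSolvable.Instances
import Mathlib.GroupTheory.SpecificGroups.Alternating.Simple

/-!
Groups with the relators are images, hence copies, of the models.
-/

set_option autoImplicit false

namespace Cfsg.Agent.FischerSolvable

open Cfsg Cfsg.Agent Cfsg.Agent.CosetCert Subgroup

variable {G : Type*} [Group G]

/-- The bound on an abstract group turns generators into a map from the model. -/
theorem exists_hom {Γ : Type} [Group Γ] [Finite Γ] {k N : ℕ} {rel : List (List ℕ)}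
    (hΓ : IsTarget Γ k rel N) {l : List G} (hinv : ∀ y ∈ l, y * y = 1) (hl : l.length = k)
    (hrel : ∀ w ∈ rel, wprod (genOf l) w = 1) (hgen : closure {y | y ∈ l} = ⊤)
    (hb : ∀ gen : ℕ → G × Γ, (∀ i, gen i * gen i = 1) → (∀ w ∈ rel, wprod gen w = 1) →
      CardLe (closure (gen '' {i | i < k})) N) : ∃ f : Γ →* G, Function.Surjective f := by
  obtain ⟨hN, m, hm, hmrel, hmgen⟩ := hΓ
  subst hl
  set gen : ℕ → G × Γ := fun i => (genOf l i, m i) with hgendef
  set K := closure (gen '' {i | i < l.length}) with hK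
  obtain ⟨hfin, hle⟩ := hb gen (fun i => Prod.ext (genOf_invol hinv i) (hm i)) fun w hw => by
    refine Prod.ext ?_ ?_
    · rw [← MonoidHom.coe_fst, wprod, map_list_prod, List.map_map]
      exact hrel w hw
    · rw [← MonoidHom.coe_snd, wprod, map_list_prod, List.map_map]
      exact hmrel w hw
  haveI := hfin
  let p2 : K →* Γ := (MonoidHom.snd G Γ).comp K.subtype
  have hs : Function.Surjective p2 := by
    intro z
    have h : z ∈ K.map (MonoidHom.snd G Γ) := by
      rw [hK, MonoidHom.map_closure, ← Set.image_comp]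
      exact (show closure (m '' {i | i < l.length}) = ⊤ from hmgen).ge (mem_top z)
    obtain ⟨q, hq, rfl⟩ := h
    exact ⟨⟨q, hq⟩, rfl⟩
  have hbij : Function.Bijective p2 := (Nat.bijective_iff_surjective_and_card p2).2
    ⟨hs, le_antisymm (hN ▸ hle) (Nat.card_le_card_of_surjective p2 hs)⟩
  refine ⟨((MonoidHom.fst G Γ).comp K.subtype).comp (MulEquiv.ofBijective p2 hbij).symm.toMonoidHom, ?_⟩
  intro y
  have h : y ∈ K.map (MonoidHom.fst G Γ) := by
    rw [hK, MonoidHom.map_closure, ← Set.image_comp]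
    refine (Subgroup.closure_mono ?_) (hgen.ge (mem_top y) : y ∈ closure {y | y ∈ l})
    intro z hz
    obtain ⟨i, hi, rfl⟩ := List.mem_iff_getElem.1 hz
    exact ⟨i, hi, List.getD_eq_getElem _ _ hi⟩
  obtain ⟨q, hq, rfl⟩ := h
  refine ⟨p2 ⟨q, hq⟩, ?_⟩
  show ((MulEquiv.ofBijective p2 hbij).symm (p2 ⟨q, hq⟩) : G × Γ).1 = q.1
  rw [show (MulEquiv.ofBijective p2 hbij).symm (p2 ⟨q, hq⟩) = ⟨q, hq⟩ from
    (MulEquiv.ofBijective p2 hbij).symm_apply_apply _]

variable (hnc : ¬ ∀ a b : G, a * b = b * a)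
include hnc

theorem equiv_of_simple {Γ : Type} [Group Γ] [IsSimpleGroup Γ] {f : Γ →* G}
    (hf : Function.Surjective f) : Nonempty (G ≃* Γ) := by
  rcases (MonoidHom.normal_ker f).eq_bot_or_eq_top with h | h
  · exact ⟨(MulEquiv.ofBijective f ⟨(MonoidHom.ker_eq_bot_iff f).1 h, hf⟩).symm⟩
  · refine absurd (fun a b => ?_) hnc
    obtain ⟨x, rfl⟩ := hf a
    obtain ⟨y, rfl⟩ := hf b
    simp [MonoidHom.mem_ker.1 (h.ge (mem_top x))]

theorem equiv_of_perm_six {f : Equiv.Perm (Fin 6) →* G} (hf : Function.Surjective f) :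
    Nonempty (G ≃* Equiv.Perm (Fin 6)) := by
  rcases eq_or_ne f.ker ⊥ with h | h
  · exact ⟨(MulEquiv.ofBijective f ⟨(MonoidHom.ker_eq_bot_iff f).1 h, hf⟩).symm⟩
  refine absurd (fun a b => ?_) hnc
  haveI : f.ker.Normal := f.normal_ker
  have hA := Equiv.Perm.alternatingGroup_le_of_normal (α := Fin 6) (by simp) ((Subgroup.nontrivial_iff_ne_bot _).2 h)
  obtain ⟨x, rfl⟩ := hf a
  obtain ⟨y, rfl⟩ := hf b
  rw [← map_mul, ← map_mul, ← mul_inv_eq_one, ← map_inv, ← map_mul]
  refine MonoidHom.mem_ker.1 (hA ?_)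
  rw [Equiv.Perm.mem_alternatingGroup]
  simp [mul_comm]

omit hnc

theorem classify (hnc : ¬ ∀ a b : G, a * b = b * a) {rel : List (List ℕ)} {l : List G}
    (h1 : (rel = relSix ∧ l.length = 5) ∨ (rel = relFour ∧ l.length = 6) ∨ (rel = relFive ∧ l.length = 7))
    (hinv : ∀ y ∈ l, y * y = 1) (hrel : ∀ w ∈ rel, wprod (genOf l) w = 1)
    (hgen : closure {y | y ∈ l} = ⊤) :
    Nonempty (G ≃* Equiv.Perm (Fin 6)) ∨ Nonempty (G ≃* Cfsg.PSU 4 RigidGraph.He.K4 2) ∨
      Nonempty (G ≃* Cfsg.PSU 5 RigidGraph.He.K4 2) := by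
  rcases h1 with ⟨rfl, hl⟩ | ⟨rfl, hl⟩ | ⟨rfl, hl⟩
  · obtain ⟨f, hf⟩ := exists_hom target_six hinv hl hrel hgen fun gen h2 h3 => by
      rw [← closure_pick 5]
      exact cardLe_six h2 h3
    exact Or.inl (equiv_of_perm_six hnc hf)
  · haveI := isSimple_psu (n := 4) le_rfl
    obtain ⟨f, hf⟩ := exists_hom target_four hinv hl hrel hgen fun gen h2 h3 => by
      rw [← closure_pick 6]
      exact cardLe_four h2 h3
    exact Or.inr (Or.inl (equiv_of_simple hnc hf))
  · haveI := isSimple_psu (n := 5) (by norm_num)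
    obtain ⟨f, hf⟩ := exists_hom target_five hinv hl hrel hgen fun gen h2 h3 => by
      rw [← closure_pick 7]
      exact cardLe_five h2 h3
    exact Or.inr (Or.inr (equiv_of_simple hnc hf))

end Cfsg.Agent.FischerSolvable
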