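import Cfsg.Agent.Lib.FischerSolvable.Residue

/-!
The lines of a class of 3-transpositions with transitive commuting in residues: a generalised quadrangle
with lines of three or five points.
-/

set_option autoImplicit false
set_option linter.style.haveILetI false

namespace Cfsg.Agent.FischerSolvable

open Cfsg.Agent Cfsg.Agent.Fischer Subgroup
open Cfsg.Agent.Fischer.OddCoreLocal (Ctx X)
open Cfsg.Agent.Fischer.LocalSymThree (nb nb_symm)

variable {G : Type*} [Group G] {D : Set G}

/-- The line through two commuting members. -/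
def Line (D : Set G) (p q : G) : Set G := insert p (insert q (X D p q))

/-- The conjugate of `u` by the product of `a` and `b`. -/
def qq (u a b : G) : G := a * b * u * (a * b)⁻¹

/-- The full hypotheses: residues as before, lines of three points or more, and trivial centre. -/
structure Quad (D : Set G) : Prop where
  hyp : Hyp D
  ne : ∀ d ∈ D, ∀ a ∈ nb D d, (X D d a).Nonempty
  even : ∀ d ∈ D, ∀ a ∈ nb D d, Even (insert a (X D d a)).ncard
  res : ∀ d ∈ D, (nb D d).Nonempty
  cz : center G = ⊥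

theorem not_commute_third (hD : IsThreeTranspositionSet D) {t v : G} (ht : t ∈ D) (hv : v ∈ D)
    (h : ¬ Commute t v) : ¬ Commute v (t * v * t⁻¹) := by
  intro hc
  rw [TSet.inv hD ht, TSet.braid hD ht hv h] at hc
  have h2 := (commute_conj_iff v v (v * t * v)).2 hc
  rw [mul_inv_cancel_right, TSet.inv hD hv,
    show v * (v * t * v) * v = (v * v) * t * (v * v) by simp only [mul_assoc],
    TSet.sq hD hv, one_mul, mul_one] at h2
  exact h h2.symm

theorem mem_line_iff {p q v : G} (hp : p ∈ D) (hq : q ∈ nb D p) :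
    v ∈ Line D p q ↔ v ∈ D ∧ Commute p v ∧ Commute q v := by
  constructor
  · rintro (rfl | rfl | h)
    · exact ⟨hp, Commute.refl _, hq.2.2.symm⟩
    · exact ⟨hq.1, hq.2.2, Commute.refl _⟩
    · exact ⟨h.1.1, h.1.2.2, h.2.2.2⟩
  · rintro ⟨hv, h1, h2⟩
    by_cases e1 : v = p
    · exact Or.inl e1
    by_cases e2 : v = q
    · exact Or.inr (Or.inl e2)
    · exact Or.inr (Or.inr ⟨⟨hv, e1, h1⟩, hv, e2, h2⟩)

theorem left_mem_line (p q : G) : p ∈ Line D p q := Or.inl rfl

theorem right_mem_line (p q : G) : q ∈ Line D p q := Or.inr (Or.inl rfl)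

namespace Quad

variable (hQ : Quad D)
include hQ

theorem tset : IsThreeTranspositionSet D := hQ.hyp.ctx.tg.1

theorem eq_one_of_commute {g : G} (h : ∀ u ∈ D, Commute g u) : g = 1 := by
  have := mem_center_of_commute_gen hQ.hyp.ctx.tg.2.2 h
  rwa [hQ.cz, mem_bot] at this

variable [Finite G]

theorem line_clique {p q u v : G} (hp : p ∈ D) (hq : q ∈ nb D p) (hu : u ∈ Line D p q)
    (hv : v ∈ Line D p q) : Commute u v := by
  obtain ⟨huD, hpu, hqu⟩ := (mem_line_iff hp hq).1 hu
  obtain ⟨hvD, hpv, hqv⟩ := (mem_line_iff hp hq).1 hv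
  by_cases e1 : u = p
  · exact e1 ▸ hpv
  by_cases e2 : v = p
  · exact e2 ▸ hpu.symm
  exact hQ.hyp.trans_nb hp ⟨huD, e1, hpu⟩ hq ⟨hvD, e2, hpv⟩ hqu.symm hqv

omit hQ in
theorem ncard_line {p q : G} (hp : p ∈ D) (hq : q ∈ nb D p) :
    (Line D p q).ncard = (X D p q).ncard + 2 := by
  rw [Line, Set.ncard_insert_of_notMem (fun h => ?_) (Set.toFinite _),
    Set.ncard_insert_of_notMem (fun h => h.2.2.1 rfl) (Set.toFinite _)]
  rcases h with h | h
  · exact hq.2.1 h.symm
  · exact h.1.2.1 rfl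

theorem ncard_line_eq {p q p' q' : G} (hp : p ∈ D) (hq : q ∈ nb D p) (hp' : p' ∈ D)
    (hq' : q' ∈ nb D p') : (Line D p q).ncard = (Line D p' q').ncard := by
  rw [ncard_line hp hq, ncard_line hp' hq', hQ.hyp.ctx.card_X hp hq hp' hq']

theorem line_eq {p q r t : G} (hp : p ∈ D) (hq : q ∈ nb D p) (hr : r ∈ Line D p q)
    (ht : t ∈ Line D p q) (hrt : t ≠ r) : t ∈ nb D r ∧ Line D r t = Line D p q := by
  have hrD := ((mem_line_iff hp hq).1 hr).1
  have htn : t ∈ nb D r := ⟨((mem_line_iff hp hq).1 ht).1, hrt, hQ.line_clique hp hq hr ht⟩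
  refine ⟨htn, (Set.eq_of_subset_of_ncard_le (fun v hv => ?_) ?_ (Set.toFinite _)).symm⟩
  · exact (mem_line_iff hrD htn).2 ⟨((mem_line_iff hp hq).1 hv).1, hQ.line_clique hp hq hr hv,
      hQ.line_clique hp hq ht hv⟩
  · exact (hQ.ncard_line_eq hrD htn hp hq).le

theorem on_line {p q r t u : G} (hp : p ∈ D) (hq : q ∈ nb D p) (hr : r ∈ Line D p q)
    (ht : t ∈ Line D p q) (hrt : t ≠ r) (hu : u ∈ D) (h1 : Commute r u) (h2 : Commute t u) :
    u ∈ Line D p q := by
  obtain ⟨htn, he⟩ := hQ.line_eq hp hq hr ht hrt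
  rw [← he]
  exact (mem_line_iff ((mem_line_iff hp hq).1 hr).1 htn).2 ⟨hu, h1, h2⟩

theorem qq_mem {u a b : G} (hu : u ∈ D) (ha : a ∈ D) (hb : b ∈ D) (hab : Commute a b) (hne : a ≠ b)
    (hua : ¬ Commute u a) (hub : ¬ Commute u b) : qq u a b ∈ nb D u := by
  refine ⟨hQ.hyp.ctx.tg.2.1 _ u hu, fun h => ?_, TSet.string_commute hQ.tset ha hu hb hua hub hab⟩
  have h1 : Commute (a * b) u := OddCoreLocal.commute_conj_self_iff.1 h
  exact hua ((TSet.commute_mul_iff hQ.tset ha hb hu hne hab).1 h1.symm).1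

theorem qq_inj {u a b b' : G} (hu : u ∈ D) (hb : b ∈ D) (hb' : b' ∈ D)
    (hbb : Commute b b') (hub : ¬ Commute u b) (h : qq u a b = qq u a b') : b = b' := by
  by_contra hne
  refine hub ((TSet.commute_mul_iff hQ.tset hb hb' hu hne hbb).1 ?_).1
  have h1 : b * u * b = b' * u * b' := by
    have h' := congrArg (fun z => a⁻¹ * z * a) h
    simp only [qq] at h'
    rw [show a⁻¹ * (a * b * u * (a * b)⁻¹) * a = b * u * b⁻¹ by group,
      show a⁻¹ * (a * b' * u * (a * b')⁻¹) * a = b' * u * b'⁻¹ by group,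
      TSet.inv hQ.tset hb, TSet.inv hQ.tset hb'] at h'
    exact h'
  show u * (b * b') = b * b' * u
  calc u * (b * b') = b * (b * u * b) * b' := by
        simp only [← mul_assoc, TSet.sq hQ.tset hb, one_mul]
    _ = b * (b' * u * b') * b' := by rw [h1]
    _ = b * b' * u := by simp only [mul_assoc, TSet.sq hQ.tset hb', mul_one]

omit [Finite G] hQ in
theorem qq_comm {u a b : G} (hab : Commute a b) : qq u a b = qq u b a := by
  rw [qq, qq, hab.eq]

theorem qq_commute {u a b b' : G} (hu : u ∈ D) (hb : b ∈ D) (hb' : b' ∈ D)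
    (hbb : Commute b b') (hub : ¬ Commute u b) (hub' : ¬ Commute u b') :
    Commute (qq u a b) (qq u a b') := by
  have h := TSet.string_commute hQ.tset hb hu hb' hub hub' hbb
  rw [← commute_conj_iff (a * b)] at h
  have e : a * b * (b * b' * u * (b * b')⁻¹) * (a * b)⁻¹ = qq u a b' := by
    rw [qq, mul_inv_rev, mul_inv_rev, mul_inv_rev, TSet.inv hQ.tset hb,
      show a * b * (b * b' * u * (b'⁻¹ * b)) * (b * a⁻¹) =
        a * (b * b) * b' * u * b'⁻¹ * (b * b) * a⁻¹ by simp only [mul_assoc], TSet.sq hQ.tset hb]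
    simp only [mul_one, mul_assoc]
  rw [e] at h
  exact h

variable {p q : G} (hp : p ∈ D) (hq : q ∈ nb D p)
include hp hq

theorem qq_all {u a b c d : G} (hu : u ∈ D) (ha : a ∈ Line D p q) (hb : b ∈ Line D p q)
    (hc : c ∈ Line D p q) (hd : d ∈ Line D p q) (hua : ¬ Commute u a) (hub : ¬ Commute u b)
    (huc : ¬ Commute u c) (hud : ¬ Commute u d) (hab : a ≠ b) (hcd : c ≠ d) :
    Commute (qq u a b) (qq u c d) := by
  have hD : ∀ {v : G}, v ∈ Line D p q → v ∈ D := fun hv => ((mem_line_iff hp hq).1 hv).1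
  have cl := fun {x y : G} (hx : x ∈ Line D p q) (hy : y ∈ Line D p q) => hQ.line_clique hp hq hx hy
  by_cases hac : a = c
  · subst hac
    exact hQ.qq_commute hu (hD hb) (hD hd) (cl hb hd) hub hud
  have h1 := hQ.qq_commute (a := a) hu (hD hb) (hD hc) (cl hb hc) hub huc
  have h2 := hQ.qq_commute (a := c) hu (hD ha) (hD hd) (cl ha hd) hua hud
  rw [qq_comm (cl hc ha)] at h2
  exact hQ.hyp.trans_nb hu (hQ.qq_mem hu (hD ha) (hD hb) (cl ha hb) hab hua hub)
    (hQ.qq_mem hu (hD ha) (hD hc) (cl ha hc) hac hua huc)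
    (hQ.qq_mem hu (hD hc) (hD hd) (cl hc hd) hcd huc hud) h1 h2

/-- For fixed `a`, every value is attained exactly once. -/
theorem qq_surj {u a c d : G} (hu : u ∈ D) (ha : a ∈ Line D p q) (hc : c ∈ Line D p q)
    (hd : d ∈ Line D p q) (hua : ¬ Commute u a) (huc : ¬ Commute u c) (hud : ¬ Commute u d)
    (hcd : c ≠ d) : ∃ b ∈ Line D p q, ¬ Commute u b ∧ b ≠ a ∧ qq u a b = qq u c d := by
  have hD : ∀ {v : G}, v ∈ Line D p q → v ∈ D := fun hv => ((mem_line_iff hp hq).1 hv).1
  have cl := fun {x y : G} (hx : x ∈ Line D p q) (hy : y ∈ Line D p q) => hQ.line_clique hp hq hx hy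
  set K : Set G := {v | v ∈ Line D p q ∧ ¬ Commute u v} with hK
  set F : Set G := {v | v ∈ Line D p q ∧ Commute u v} with hF
  set I : Set G := (fun b => qq u a b) '' (K \ {a}) with hI
  set t := qq u c d with ht
  have htn : t ∈ nb D u := hQ.qq_mem hu (hD hc) (hD hd) (cl hc hd) hcd huc hud
  by_contra hno
  have htI : t ∉ I := by
    rintro ⟨b, ⟨⟨hb, hub⟩, hba⟩, hbe⟩
    exact hno ⟨b, hb, hub, hba, hbe⟩
  have hsub : insert t I ⊆ Line D u t \ insert u F := by
    have hmem : ∀ v ∈ insert t I, ∃ a' b', a' ∈ K ∧ b' ∈ K ∧ a' ≠ b' ∧ v = qq u a' b' := by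
      rintro v (rfl | ⟨b, ⟨hb, hba⟩, rfl⟩)
      · exact ⟨c, d, ⟨hc, huc⟩, ⟨hd, hud⟩, hcd, rfl⟩
      · exact ⟨a, b, ⟨ha, hua⟩, hb, Ne.symm hba, rfl⟩
    intro v hv
    obtain ⟨a', b', ⟨ha', hua'⟩, ⟨hb', hub'⟩, hne, rfl⟩ := hmem v hv
    have hn := hQ.qq_mem hu (hD ha') (hD hb') (cl ha' hb') hne hua' hub'
    refine ⟨(mem_line_iff hu htn).2 ⟨hn.1, hn.2.2,
      hQ.qq_all hp hq hu hc hd ha' hb' huc hud hua' hub' hcd hne⟩, ?_⟩
    rintro (he | ⟨hv1, hv2⟩)
    · exact hn.2.1 he
    · have h1 := (commute_conj_iff (a' * b') u (qq u a' b')).2 hv2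
      rw [conj_eq_self_of_commute (((cl hv1 ha').mul_right (cl hv1 hb')).symm)] at h1
      have : qq u a' b' = a' * b' * u * (a' * b')⁻¹ := rfl
      rw [← this] at h1
      -- `u` lies on the line
      have h2 : u = qq u a' b' := by
        have h3 := conj_eq_self_of_commute (((cl hv1 ha').mul_right (cl hv1 hb')).symm)
        exact (mul_left_cancel (mul_right_cancel (h3.trans this))).symm
      exact hn.2.1 h2.symm
  have hFsub : insert u F ⊆ Line D u t := by
    rintro v (rfl | ⟨hv, huv⟩)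
    · exact left_mem_line _ _
    · refine (mem_line_iff hu htn).2 ⟨hD hv, huv, ?_⟩
      have h1 := (commute_conj_iff (c * d) u v).2 huv
      rwa [conj_eq_self_of_commute (((cl hv hc).mul_right (cl hv hd)).symm)] at h1
  have huF : u ∉ F := fun h => hua (cl h.1 ha)
  have h1 := Set.ncard_le_ncard hsub (Set.toFinite _)
  rw [Set.ncard_insert_of_notMem htI (Set.toFinite _), Set.ncard_diff hFsub (Set.toFinite _),
    Set.ncard_insert_of_notMem huF (Set.toFinite _), hQ.ncard_line_eq hu htn hp hq] at h1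
  have hKF : (K ∪ F) = Line D p q := by
    ext v
    simp only [hK, hF, Set.mem_union, Set.mem_setOf_eq]
    by_cases h : Commute u v <;> simp [h]
  have h2 : K.ncard + F.ncard = (Line D p q).ncard := by
    rw [← hKF, Set.ncard_union_eq (Set.disjoint_left.2 fun v hv hv' => hv.2 hv'.2) (Set.toFinite _)
      (Set.toFinite _)]
  have h3 : I.ncard = K.ncard - 1 := by
    rw [hI, Set.InjOn.ncard_image ?_, Set.ncard_sdiff_singleton_of_mem (show a ∈ K from ⟨ha, hua⟩)]
    rintro b₁ ⟨⟨hb₁, hu₁⟩, -⟩ b₂ ⟨⟨hb₂, -⟩, -⟩ h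
    exact hQ.qq_inj hu (hD hb₁) (hD hb₂) (cl hb₁ hb₂) hu₁ h
  have h4 : 1 ≤ K.ncard := (Set.ncard_pos (Set.toFinite _)).2 ⟨a, ha, hua⟩
  omega

/-- The fourth member of a quadruple. -/
theorem quad {u a b c : G} (hu : u ∈ D) (ha : a ∈ Line D p q) (hb : b ∈ Line D p q)
    (hc : c ∈ Line D p q) (hua : ¬ Commute u a) (hub : ¬ Commute u b) (huc : ¬ Commute u c)
    (hab : a ≠ b) (hac : a ≠ c) (hbc : b ≠ c) :
    ∃ d ∈ Line D p q, ¬ Commute u d ∧ d ≠ a ∧ d ≠ b ∧ d ≠ c ∧ qq u c d = qq u a b := by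
  have hD : ∀ {v : G}, v ∈ Line D p q → v ∈ D := fun hv => ((mem_line_iff hp hq).1 hv).1
  have cl := fun {x y : G} (hx : x ∈ Line D p q) (hy : y ∈ Line D p q) => hQ.line_clique hp hq hx hy
  obtain ⟨d, hd, hud, hdc, he⟩ := hQ.qq_surj hp hq hu hc ha hb huc hua hub hab
  refine ⟨d, hd, hud, ?_, ?_, hdc, he⟩
  · rintro rfl
    rw [qq_comm (cl hc hd)] at he
    exact hbc (hQ.qq_inj hu (hD hc) (hD hb) (cl hc hb) huc he).symm
  · rintro rfl
    rw [qq_comm (cl hc hd), qq_comm (cl ha hd)] at he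
    exact hac (hQ.qq_inj hu (hD hc) (hD ha) (cl hc ha) huc he).symm

theorem exists_foot {u : G} (hu : u ∈ D) (hul : u ∉ Line D p q) :
    ∃ e ∈ Line D p q, Commute u e := by
  by_contra hno
  push Not at hno
  classical
  set S := (Set.toFinite (Line D p q)).toFinset with hS
  have hqp : p ≠ q := hq.2.1.symm
  have hodd : Odd S.card := by
    rw [hS, ← Set.ncard_eq_toFinset_card, Line, Set.ncard_insert_of_notMem ?_ (Set.toFinite _)]
    · exact (hQ.even p hp q hq).add_one
    · rintro (h | h)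
      · exact hqp h
      · exact h.1.2.1 rfl
  have hmem : ∀ {v : G}, v ∈ S ↔ v ∈ Line D p q := fun {v} => by rw [hS, Set.Finite.mem_toFinset]
  choose f hf using fun (a : G) (ha : a ∈ S) =>
    hQ.qq_surj hp hq hu (hmem.1 ha) (left_mem_line p q) (right_mem_line p q) (hno a (hmem.1 ha))
      (hno p (left_mem_line p q)) (hno q (right_mem_line p q)) hqp
  have hsum : ∑ _a ∈ S, (1 : ZMod 2) = 0 := by
    refine Finset.sum_involution (fun a ha => f a ha) (fun a _ => by decide)
      (fun a ha _ => (hf a ha).2.2.1) (fun a ha => hmem.2 (hf a ha).1) fun a ha => ?_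
    have h1 := hf a ha
    have h2 := hf (f a ha) (hmem.2 h1.1)
    have cl := fun {x y : G} (hx : x ∈ Line D p q) (hy : y ∈ Line D p q) => hQ.line_clique hp hq hx hy
    have he := (h2.2.2.2.trans h1.2.2.2.symm).trans (qq_comm (cl (hmem.1 ha) h1.1))
    exact hQ.qq_inj hu ((mem_line_iff hp hq).1 h2.1).1 ((mem_line_iff hp hq).1 (hmem.1 ha)).1
      (cl h2.1 (hmem.1 ha)) h2.2.1 he
  rw [Finset.sum_const, nsmul_eq_mul, mul_one, ZMod.natCast_eq_zero_iff_even] at hsum
  exact (Nat.not_even_iff_odd.2 hodd) hsum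

theorem foot_unique {u e f : G} (hu : u ∈ D) (hul : u ∉ Line D p q) (he : e ∈ Line D p q)
    (hf : f ∈ Line D p q) (h1 : Commute u e) (h2 : Commute u f) : e = f := by
  by_contra hne
  exact hul (hQ.on_line hp hq he hf (Ne.symm hne) hu h1.symm h2.symm)

theorem exists_other_line : ∃ u ∈ nb D p, ¬ Commute q u := by
  obtain ⟨r, hr⟩ := hQ.ne p hp q hq
  obtain ⟨u, hu, h, -⟩ := hQ.hyp.exists_mid hp hq hr.1 hr.2.2.1.symm hr.2.2.2
  exact ⟨u, hu, h⟩

theorem ncard_line_le : (Line D p q).ncard ≤ 5 := by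
  by_contra hbig
  push Not at hbig
  have hD : ∀ {v : G}, v ∈ Line D p q → v ∈ D := fun hv => ((mem_line_iff hp hq).1 hv).1
  have cl := fun {x y : G} (hx : x ∈ Line D p q) (hy : y ∈ Line D p q) => hQ.line_clique hp hq hx hy
  have tinv := fun {x : G} (hx : x ∈ D) => TSet.inv hQ.tset hx
  obtain ⟨u, hu, hqu⟩ := hQ.exists_other_line hp hq
  have hul : u ∉ Line D p q := fun h => hqu (cl (right_mem_line p q) h)
  have hK : ∀ v ∈ Line D p q, v ≠ p → ¬ Commute u v := fun v hv hvp h =>
    hvp (hQ.foot_unique hp hq hu.1 hul hv (left_mem_line p q) h hu.2.2.symm)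
  set L' := Line D p q \ {p} with hL'
  have hc' : 4 < L'.ncard := by
    rw [hL', Set.ncard_sdiff_singleton_of_mem (left_mem_line p q)]; omega
  obtain ⟨a, ⟨ha, hap⟩⟩ : L'.Nonempty := Set.nonempty_of_ncard_ne_zero (by omega)
  have pick : ∀ T : Finset G, T.card ≤ 4 → ∃ v ∈ Line D p q, v ≠ p ∧ v ∉ T := by
    intro T hT
    by_contra hno
    push Not at hno
    have := Set.ncard_le_ncard (s := L') (t := (T : Set G)) (fun v hv => hno v hv.1 hv.2)
      (Set.toFinite _)
    rw [Set.ncard_coe_finset] at this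
    omega
  classical
  obtain ⟨b, hb, hbp, hba⟩ := pick {a} (by simp)
  simp only [Finset.mem_singleton] at hba
  obtain ⟨c, hc, hcp, hcab⟩ := pick {a, b} (by exact le_trans Finset.card_le_two (by omega))
  simp only [Finset.mem_insert, Finset.mem_singleton, not_or] at hcab
  obtain ⟨hca, hcb⟩ := hcab
  obtain ⟨d, hd, hud, hda, hdb, hdc, hde⟩ := hQ.quad hp hq hu.1 ha hb hc (hK a ha hap) (hK b hb hbp)
    (hK c hc hcp) (Ne.symm hba) (Ne.symm hca) (Ne.symm hcb)
  have hdp : d ≠ p := fun h => hud (h ▸ hu.2.2.symm)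
  obtain ⟨g, hg, hgp, hgT⟩ := pick {a, b, c, d} Finset.card_le_four
  simp only [Finset.mem_insert, Finset.mem_singleton, not_or] at hgT
  obtain ⟨hga, hgb, hgc, hgd⟩ := hgT
  set z := a * b * (c * d) with hz
  have hab2 : (a * b) * (a * b) = 1 := by
    rw [mul_assoc, ← mul_assoc b a b, (cl hb ha).eq, mul_assoc a b b, TSet.sq hQ.tset (hD hb), mul_one,
      TSet.sq hQ.tset (hD ha)]
  have hzu : z * u * z⁻¹ = u := by
    rw [hz, show a * b * (c * d) * u * (a * b * (c * d))⁻¹ = a * b * qq u c d * (a * b)⁻¹ by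
        rw [qq]; group, hde, qq,
      show a * b * (a * b * u * (a * b)⁻¹) * (a * b)⁻¹ = (a * b) * (a * b) * u * ((a * b) * (a * b))⁻¹ by
        group, hab2, one_mul, inv_one, mul_one]
  -- a second line through `u`
  have hpn : p ∈ nb D u := nb_symm hp hu
  obtain ⟨v, hv, hpv⟩ := hQ.exists_other_line hu.1 hpn
  have hpM : p ∉ Line D u v := fun h => hpv ((mem_line_iff hu.1 hv).1 h).2.2.symm
  have footM : ∀ w ∈ Line D p q, w ≠ p → ∃ m ∈ Line D u v, m ∉ Line D p q ∧ Commute w m ∧
      ∀ y ∈ Line D p q, y ≠ w → ¬ Commute m y := by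
    intro w hw hwp
    have hwM : w ∉ Line D u v := fun h =>
      hK w hw hwp (hQ.line_clique hu.1 hv (left_mem_line u v) h)
    obtain ⟨m, hm, hwm⟩ := hQ.exists_foot hu.1 hv (hD hw) hwM
    have hml : m ∉ Line D p q := by
      intro hml
      refine hpM ?_
      rwa [← hQ.foot_unique hp hq hu.1 hul hml (left_mem_line p q)
        (hQ.line_clique hu.1 hv (left_mem_line u v) hm) hu.2.2.symm]
    exact ⟨m, hm, hml, hwm, fun y hy hyw h =>
      hyw (hQ.foot_unique hp hq ((mem_line_iff hu.1 hv).1 hm).1 hml hy hw h hwm.symm)⟩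
  obtain ⟨m, hm, -, ham, hmK⟩ := footM a ha hap
  obtain ⟨n, hn, -, hgn, hnK⟩ := footM g hg hgp
  have hmD := ((mem_line_iff hu.1 hv).1 hm).1
  have hnD := ((mem_line_iff hu.1 hv).1 hn).1
  -- the image of `n` commutes with `n`
  have hn' : Commute n (z * n * z⁻¹) := by
    obtain ⟨d', hd', hnd', -, -, hd'c, he⟩ := hQ.quad hp hq hnD ha hb hc (hnK a ha (Ne.symm hga))
      (hnK b hb (Ne.symm hgb)) (hnK c hc (Ne.symm hgc)) (Ne.symm hba) (Ne.symm hca) (Ne.symm hcb)
    have e : z * n * z⁻¹ = d * d' * n * (d * d')⁻¹ := by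
      have hzz : z = d * c * (a * b) := by
        rw [hz, (cl hc hd).eq, (((cl ha hd).mul_left (cl hb hd)).mul_right
          ((cl ha hc).mul_left (cl hb hc))).eq]
      rw [hzz, show d * c * (a * b) * n * (d * c * (a * b))⁻¹ = d * c * qq n a b * (d * c)⁻¹ by
        rw [qq]; group, ← he, qq, show d * c * (c * d' * n * (c * d')⁻¹) * (d * c)⁻¹ =
          d * (c * c) * d' * n * (d * (c * c) * d')⁻¹ by group, TSet.sq hQ.tset (hD hc), mul_one]
    rw [e]
    by_cases hdd : d = d'
    · subst hdd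
      rw [TSet.sq hQ.tset (hD hd), one_mul, inv_one, mul_one]
    · exact TSet.string_commute hQ.tset (hD hd) hnD (hD hd') (hnK d hd (Ne.symm hgd)) hnd' (cl hd hd')
  -- the image of `m` does not
  have hm' : ¬ Commute m (z * m * z⁻¹) := by
    obtain ⟨d', hd', hmd', -, -, -, he⟩ := hQ.quad hp hq hmD hb hc hd (hmK b hb hba)
      (hmK c hc hca) (hmK d hd hda) (Ne.symm hcb) (Ne.symm hdb) (Ne.symm hdc)
    have e : z * m * z⁻¹ = d' * m * d'⁻¹ := by
      have hzz : z = d * (b * c) * a := by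
        rw [hz, mul_assoc a b, ← mul_assoc b c d, ((cl hb hd).mul_left (cl hc hd)).eq,
          ((cl ha hd).mul_right ((cl ha hb).mul_right (cl ha hc))).eq]
      rw [hzz, show d * (b * c) * a * m * (d * (b * c) * a)⁻¹ = d * (b * c) * (a * m * a⁻¹) * (d * (b * c))⁻¹ by
        group, conj_eq_self_of_commute ham,
        show d * (b * c) * m * (d * (b * c))⁻¹ = d * qq m b c * d⁻¹ by rw [qq]; group, ← he, qq,
        show d * (d * d' * m * (d * d')⁻¹) * d⁻¹ = (d * d) * d' * m * ((d * d) * d')⁻¹ by group,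
        TSet.sq hQ.tset (hD hd), one_mul]
    rw [e]
    exact not_commute_third hQ.tset (hD hd') hmD fun h => hmd' h.symm
  -- but both lie on the second line
  have hnu : u ≠ n := fun h => hK g hg hgp (h ▸ hgn.symm)
  set n' := z * n * z⁻¹ with hn'def
  have hn'D : n' ∈ D := hQ.hyp.ctx.tg.2.1 z n hnD
  have hun' : Commute u n' := by
    have := (commute_conj_iff z u n).2 (hQ.line_clique hu.1 hv (left_mem_line u v) hn)
    rwa [hzu] at this
  have hn'M : n' ∈ Line D u v :=
    hQ.on_line hu.1 hv (left_mem_line u v) hn (Ne.symm hnu) hn'D hun' hn'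
  have hn'u : n' ≠ u := fun h => hnu (mul_left_cancel (mul_right_cancel (hzu.trans h.symm)))
  refine hm' (hQ.line_clique hu.1 hv hm (hQ.on_line hu.1 hv (left_mem_line u v) hn'M hn'u
    (hQ.hyp.ctx.tg.2.1 z m hmD) ?_ ?_))
  · have := (commute_conj_iff z u m).2 (hQ.line_clique hu.1 hv (left_mem_line u v) hm)
    rwa [hzu] at this
  · exact (commute_conj_iff z n m).2 (hQ.line_clique hu.1 hv hn hm)

/-- The product of the five points of a line is trivial. -/
theorem prod_five (h5 : (Line D p q).ncard = 5) {x a b c d : G} (hx : x ∈ Line D p q)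
    (ha : a ∈ Line D p q) (hb : b ∈ Line D p q) (hc : c ∈ Line D p q) (hd : d ∈ Line D p q)
    (hcard : ({x, a, b, c, d} : Set G).ncard = 5) : x * a * b * c * d = 1 := by
  have hall : Line D p q = {x, a, b, c, d} := by
    refine (Set.eq_of_subset_of_ncard_le ?_ (by omega) (Set.toFinite _)).symm
    simp only [Set.insert_subset_iff, Set.singleton_subset_iff]
    exact ⟨hx, ha, hb, hc, hd⟩
  have hD : ∀ {v : G}, v ∈ Line D p q → v ∈ D := fun hv => ((mem_line_iff hp hq).1 hv).1
  have cl := fun {s t : G} (hs : s ∈ Line D p q) (ht : t ∈ Line D p q) => hQ.line_clique hp hq hs ht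
  have key : ∀ u ∈ D, u ∉ Line D p q → ∀ f a b c d : G, Commute u f →
      Line D p q = {f, a, b, c, d} → Commute (f * a * b * c * d) u := by
    intro u hu hul f a b c d huf hs
    have mf : f ∈ Line D p q := by simp [hs]
    have ma : a ∈ Line D p q := by simp [hs]
    have mb : b ∈ Line D p q := by simp [hs]
    have mc : c ∈ Line D p q := by simp [hs]
    have md : d ∈ Line D p q := by simp [hs]
    have hne : ∀ {s t : G} (l : List G), l.length = 3 → (∀ v ∈ ({f, a, b, c, d} : Set G), v = s ∨ v ∈ l) →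
        s = t → False := by
      intro s t l hl hcov _
      classical
      have hle : ({f, a, b, c, d} : Set G) ⊆ ((s :: l).toFinset : Set G) := by
        intro v hv
        simpa using hcov v hv
      have := Set.ncard_le_ncard hle (Set.toFinite _)
      rw [Set.ncard_coe_finset, ← hs, h5] at this
      have := this.trans (List.toFinset_card_le _)
      simp [hl] at this
    have hfa : f ≠ a := fun e => hne [b, c, d] rfl (by simp [e]) e
    have hfb : f ≠ b := fun e => hne [a, c, d] rfl (by simp [e]) e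
    have hfc : f ≠ c := fun e => hne [a, b, d] rfl (by simp [e]) e
    have hab : a ≠ b := fun e => hne (s := f) (t := f) [b, c, d] rfl (by simp [e]) rfl
    have hac : a ≠ c := fun e => hne (s := f) (t := f) [b, c, d] rfl (by simp [e]) rfl
    have hbc : b ≠ c := fun e => hne (s := f) (t := f) [a, c, d] rfl (by simp [e]) rfl
    have hK : ∀ v ∈ Line D p q, f ≠ v → ¬ Commute u v := fun v hv hfv h =>
      hfv (hQ.foot_unique hp hq hu hul mf hv huf h)
    obtain ⟨d', hd', hud', h1, h2, h3, he⟩ := hQ.quad hp hq hu ma mb mc (hK a ma hfa) (hK b mb hfb)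
      (hK c mc hfc) hab hac hbc
    have : d' = d := by
      rw [hs] at hd'
      simp only [Set.mem_insert_iff, Set.mem_singleton_iff] at hd'
      rcases hd' with e | e | e | e | e
      exacts [absurd (e ▸ huf) hud', absurd e h1, absurd e h2, absurd e h3, e]
    rw [this] at he
    have h4 : Commute (a * b * (c * d)) u := by
      refine OddCoreLocal.commute_conj_self_iff.1 ?_
      rw [show a * b * (c * d) * u * (a * b * (c * d))⁻¹ = a * b * qq u c d * (a * b)⁻¹ by
          rw [qq]; group, he, qq,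
        show a * b * (a * b * u * (a * b)⁻¹) * (a * b)⁻¹ =
          (a * b) * (a * b) * u * ((a * b) * (a * b))⁻¹ by group]
      have : a * b * (a * b) = 1 := by
        rw [mul_assoc, ← mul_assoc b a b, (cl mb ma).eq, mul_assoc a b b, TSet.sq hQ.tset (hD mb),
          mul_one, TSet.sq hQ.tset (hD ma)]
      rw [this, one_mul, inv_one, mul_one]
    rw [show f * a * b * c * d = f * (a * b * (c * d)) by group]
    exact huf.symm.mul_left h4
  refine hQ.eq_one_of_commute fun u hu => ?_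
  by_cases hul : u ∈ Line D p q
  · exact ((((cl hx hul).mul_left (cl ha hul)).mul_left (cl hb hul)).mul_left (cl hc hul)).mul_left
      (cl hd hul)
  obtain ⟨f, hf, huf⟩ := hQ.exists_foot hp hq hu hul
  rw [hall] at hf
  simp only [Set.mem_insert_iff, Set.mem_singleton_iff] at hf
  rcases hf with rfl | rfl | rfl | rfl | rfl
  · exact key u hu hul f a b c d huf hall
  · rw [show x * f * b * c * d = f * x * b * c * d by rw [(cl hx ha).eq]]
    exact key u hu hul f x b c d huf (hall.trans (by ext; simp; tauto))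
  · rw [show x * a * f * c * d = f * x * a * c * d by
      rw [((cl hx hb).mul_left (cl ha hb)).eq]; simp only [mul_assoc]]
    exact key u hu hul f x a c d huf (hall.trans (by ext; simp; tauto))
  · rw [show x * a * b * f * d = f * x * a * b * d by
      rw [(((cl hx hc).mul_left (cl ha hc)).mul_left (cl hb hc)).eq]; simp only [mul_assoc]]
    exact key u hu hul f x a b d huf (hall.trans (by ext; simp; tauto))
  · rw [show x * a * b * c * f = f * x * a * b * c by
      rw [((((cl hx hd).mul_left (cl ha hd)).mul_left (cl hb hd)).mul_left (cl hc hd)).eq]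
      simp only [mul_assoc]]
    exact key u hu hul f x a b c huf (hall.trans (by ext; simp; tauto))

end Quad

end Cfsg.Agent.FischerSolvable
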