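import Cfsg.Agent.Lib.FischerSolvable.Config

/-!
The group is S₅ or has generators satisfying one of the three sets of relators.
-/

set_option autoImplicit false

namespace Cfsg.Agent.FischerSolvable

open Cfsg.Agent Cfsg.Agent.Fischer Subgroup
open Cfsg.Agent.Fischer.OddCoreLocal (Ctx X)
open Cfsg.Agent.Fischer.LocalSymThree (nb nb_symm)

variable {G : Type*} [Group G] [Finite G] {D : Set G}

theorem quad_of_hyp (hh : Hyp D) (hz : center G = ⊥) {x : G} (hx : x ∈ D)
    (hw : ∃ a ∈ D, ∃ b ∈ D, a ≠ b ∧ Commute a b) (hconn : (Cfsg.commutingGraph D).Connected) :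
    Quad D := by
  obtain ⟨a₀, ha₀, b₀, hb₀, hne₀, hc₀⟩ := hw
  have hres : ∀ d ∈ D, (nb D d).Nonempty := by
    intro d hd
    rw [← Set.ncard_pos, hh.ctx.card_nb hd ha₀, Set.ncard_pos]
    exact ⟨b₀, hb₀, hne₀.symm, hc₀⟩
  have hne : ∀ d ∈ D, ∀ a ∈ nb D d, (X D d a).Nonempty := by
    intro d hd a ha
    by_contra hX
    rw [Set.not_nonempty_iff_eq_empty] at hX
    have hall : ∀ e ∈ D, ∀ b ∈ nb D e, X D e b = ∅ := by
      intro e he b hb
      rw [← Set.ncard_eq_zero (Set.toFinite _), hh.ctx.card_X he hb hd ha, hX, Set.ncard_empty]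
    have hnc : ∀ e ∈ D, ∀ p ∈ nb D e, ∀ q ∈ nb D e, p ≠ q → ¬ Commute p q := by
      intro e he p hp q hq hpq hc
      exact (hall e he p hp).subset (show q ∈ X D e p from ⟨hq, hq.1, hpq.symm, hc⟩)
    have hsub : ∀ e ∈ D, ∀ p ∈ nb D e, ∀ q ∈ nb D e, p = q := by
      intro e he p hp q hq
      by_contra hpq
      obtain ⟨w, hw, hwp, hwq, hiff⟩ := hh.sep e he p hp q hq (hnc e he p hp q hq hpq)
      exact hiff (iff_of_false (hnc e he p hp w hw hwp.symm) (hnc e he q hq w hw hwq.symm))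
    have hclosed : ∀ (u v : D) (p : (Cfsg.commutingGraph D).Walk u v),
        ((u : G) = d ∨ (u : G) = a) → ((v : G) = d ∨ (v : G) = a) := by
      intro u v p
      induction p with
      | nil => exact id
      | @cons u w v h _ ih =>
        intro hu
        refine ih ?_
        rw [Cfsg.commutingGraph, SimpleGraph.fromRel_adj] at h
        have hcuw : Commute (u : G) (w : G) := h.2.elim id (fun h => Commute.symm h)
        have hwu : (w : G) ∈ nb D u := ⟨w.2, fun e => h.1 (Subtype.ext e.symm), hcuw⟩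
        rcases hu with e | e <;> rw [e] at hwu
        · exact Or.inr (hsub d hd _ hwu a ha)
        · exact Or.inl (hsub a ha.1 _ hwu d (nb_symm hd ha))
    have hc : ∀ v ∈ D, Commute d v := by
      intro v hv
      obtain ⟨p⟩ := hconn.preconnected ⟨d, hd⟩ ⟨v, hv⟩
      rcases hclosed _ _ p (Or.inl rfl) with e | e <;> rw [show v = _ from e]
      exact ha.2.2
    have hd1 := mem_center_of_commute_gen hh.ctx.tg.2.2 hc
    rw [hz, mem_bot] at hd1
    exact TSet.ne_one hh.ctx.tg.1 hd hd1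
  refine ⟨hh, hne, ?_, hres, hz⟩
  intro d hd a ha
  obtain ⟨k, hk⟩ := card_class hh hd ha
  have hn : a ∉ X D d a := fun h => h.2.2.1 rfl
  have h1 := (hne d hd a ha).ncard_pos (s := X D d a)
  rw [Set.ncard_insert_of_notMem hn (Set.toFinite _)] at hk
  have : k ≠ 0 := by rintro rfl; simp at hk; omega
  rw [Set.ncard_insert_of_notMem hn (Set.toFinite _), hk]
  exact Nat.even_pow.2 ⟨even_two, this⟩

theorem generators_or_perm_five
    (hsol : ∀ N : Subgroup G, N.Normal → Group.IsSolvable ↥N → N = ⊥)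
    (hperf : ⁅commutator G, commutator G⁆ = commutator G)
    (hD : Cfsg.IsThreeTranspositionClass D) {x : G} (hx : x ∈ D)
    (hs : Group.IsSolvable ↥(closure (nb D x))) :
    Nonempty (G ≃* Equiv.Perm (Fin 5)) ∨
    ∃ (rel : List (List ℕ)) (l : List G), ((rel = relSix ∧ l.length = 5) ∨
      (rel = relFour ∧ l.length = 6) ∨ (rel = relFive ∧ l.length = 7)) ∧ (∀ y ∈ l, y * y = 1) ∧
      (∀ v ∈ rel, CosetCert.wprod (genOf l) v = 1) ∧ closure {y | y ∈ l} = ⊤ := by
  by_cases hO : Cfsg.oddCore ↥(closure (nb D x)) ≤ center ↥(closure (nb D x))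
  swap
  · exact Or.inl (OddCoreLocal.nonempty_mulEquiv_perm_five hsol hperf hD hx hO)
  have hT := TClass.toGroup hD
  obtain ⟨hz, h2, h3, hD2⟩ := TClass.of_no_solvable hD hsol
  have hprim := TClass.primitive_of_perfect hD hD2 (h2.le.trans bot_le) (h3.le.trans bot_le) hperf
  have hw := exists_commuting_pair hT hD2 (h3.le.trans bot_le)
  have hC : Ctx D := ⟨hT, TClass.transitive hD, fun d hd => prim_trans_commuting hT hprim hw hd,
    fun d hd => prim_trans_noncommuting hT hprim hw hd,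
    fun d hd w hsame => prim_sameNbr_trivial hT hprim hw hd hsame⟩
  have hQ := quad_of_hyp (hyp_of_base hC hx hs hO) hz hx hw (prim_connected hT hprim hw)
  obtain ⟨rel, l, h1, hl, h2, h3⟩ := hQ.exists_gens hx
  exact Or.inr ⟨rel, l, h1, fun y hy => TSet.sq hT.1 (hl y hy), h2, h3⟩

end Cfsg.Agent.FischerSolvable
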