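import Cfsg.Agent.Lib.FischerSolvable.Cluster

/-!
The hypotheses on residues from solvability of the residual group with central odd core, and the parity
of the residual classes.
-/

set_option autoImplicit false
set_option linter.style.haveILetI false

namespace Cfsg.Agent.FischerSolvable

open Cfsg.Agent Cfsg.Agent.Fischer Subgroup Equiv
open Cfsg.Agent.Fischer.OddCoreLocal (Ctx X)
open Cfsg.Agent.Fischer.LocalSymThree (nb nb_symm)

variable {G : Type*} [Group G] {D : Set G}

theorem no_string (hC : Ctx D) {x : G} [Group.IsSolvable ↥(closure (nb D x))] {p q r s : G}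
    (hp : p ∈ nb D x) (hq : q ∈ nb D x) (hr : r ∈ nb D x) (hs : s ∈ nb D x) (hpq : ¬ Commute p q)
    (hqr : ¬ Commute q r) (hrs : ¬ Commute r s) (hpr : Commute p r) (hps : Commute p s)
    (hqs : Commute q s) : False := by
  obtain ⟨φ, h1, h2, h3, h4⟩ := hC.exists_chain_hom hp.1 hq.1 hr.1 hs.1 hpq hqr hrs hpr hps hqs
  have hle : φ.range ≤ closure (nb D x) := by
    rw [MonoidHom.range_eq_map, ← Equiv.Perm.mclosure_swap_castSucc_succ 4 |> fun h =>
      (show closure (Set.range fun i : Fin 4 => swap i.castSucc i.succ) = ⊤ from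
        top_unique fun g _ => by
          have hg : g ∈ Submonoid.closure (Set.range fun i : Fin 4 => swap i.castSucc i.succ) := by
            rw [h]; trivial
          exact (Submonoid.closure_le.2 subset_closure :
            _ ≤ (closure (Set.range fun i : Fin 4 => swap i.castSucc i.succ)).toSubmonoid) hg),
      MonoidHom.map_closure, closure_le]
    rintro _ ⟨_, ⟨i, rfl⟩, rfl⟩
    fin_cases i
    · exact subset_closure (show φ (swap 0 1) ∈ nb D x from h1 ▸ hp)
    · exact subset_closure (show φ (swap 1 2) ∈ nb D x from h2 ▸ hq)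
    · exact subset_closure (show φ (swap 2 3) ∈ nb D x from h3 ▸ hr)
    · exact subset_closure (show φ (swap 3 4) ∈ nb D x from h4 ▸ hs)
  let ψ : Perm (Fin 5) →* ↥(closure (nb D x)) := φ.codRestrict _ fun g => hle ⟨g, rfl⟩
  haveI := alternatingGroup.isSimpleGroup (α := Fin 5) (by simp)
  have hker : ((ψ.ker).subgroupOf (alternatingGroup (Fin 5))) = ⊤ := by
    refine (Subgroup.Normal.eq_bot_or_eq_top inferInstance).resolve_left fun hbot => ?_
    have hinj : Function.Injective (ψ.comp (alternatingGroup (Fin 5)).subtype) := by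
      rw [injective_iff_map_eq_one]
      intro g hg
      have : g ∈ (ψ.ker).subgroupOf (alternatingGroup (Fin 5)) := hg
      rwa [hbot, mem_bot] at this
    haveI : Group.IsSolvable ↥(alternatingGroup (Fin 5)) :=
      Group.isSolvable_of_isSolvable_injective hinj
    refine Equiv.Perm.not_isSolvable_fin_5 ?_
    exact Group.isSolvable_of_ker_le_range (alternatingGroup (Fin 5)).subtype
      (Equiv.Perm.sign) (fun g hg => ⟨⟨g, hg⟩, rfl⟩)
  have hmem : (swap 0 1 * swap 1 2 : Perm (Fin 5)) ∈ alternatingGroup (Fin 5) :=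
    Equiv.Perm.mem_alternatingGroup.2 (by decide)
  have h := congrArg Subtype.val
    (MonoidHom.mem_ker.1 ((Subgroup.subgroupOf_eq_top.1 hker) hmem) : ψ _ = 1)
  change φ (swap 0 1 * swap 1 2) = 1 at h
  rw [map_mul, h1, h2, mul_eq_one_iff_eq_inv, TSet.inv hC.tg.1 hq.1] at h
  exact hpq (h ▸ Commute.refl _)

theorem sep_at [Finite G] (hC : Ctx D) {x : G}
    (hO : Cfsg.oddCore ↥(closure (nb D x)) ≤ center ↥(closure (nb D x))) {y y' : G}
    (hy : y ∈ nb D x) (hy' : y' ∈ nb D x) (hn : ¬ Commute y y') :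
    ∃ w ∈ nb D x, w ≠ y ∧ w ≠ y' ∧ ¬ (Commute y w ↔ Commute y' w) := by
  by_contra hcon
  push Not at hcon
  haveI : Fact (Nat.Prime 2) := ⟨Nat.prime_two⟩
  haveI : Fact (Nat.Prime 3) := ⟨Nat.prime_three⟩
  set H := closure (nb D x) with hH
  set E : Set H := {e | (e : G) ∈ nb D x} with hE
  have hEgen : closure E = ⊤ := closure_closure_coe_preimage
  have hEconj : ∀ g : H, ∀ e ∈ E, g * e * g⁻¹ ∈ E := fun g e he => by
    have := hC.nb_conj (g : G) he
    rwa [conj_eq_self_of_commute (OddCoreLocal.commute_of_mem_closure_nb g.2)] at this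
  have hET : IsThreeTranspositionGroup E := by
    refine ⟨⟨fun d hd => ?_, fun d hd e he => ?_⟩, hEconj, hEgen⟩
    · rw [← Subgroup.orderOf_coe]; exact hC.tg.1.1 _ hd.1
    · refine (hC.tg.1.2 _ hd.1 _ he.1).imp (fun h => ?_) (fun h => ?_) <;>
        exact Subtype.ext (by simpa using h)
  have hcm : ∀ {a b : H}, Commute a b ↔ Commute (a : G) (b : G) := fun {a b} =>
    ⟨fun h => congrArg Subtype.val h, fun h => Subtype.ext h⟩
  set Y : H := ⟨y, subset_closure hy⟩ with hY
  set Y' : H := ⟨y', subset_closure hy'⟩ with hY'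
  have hsame : SameNbr E Y Y' := by
    refine ⟨hy', fun e he => ?_⟩
    rw [hcm, hcm]
    show (e ≠ Y ∧ Commute y (e : G)) ↔ (e ≠ Y' ∧ Commute y' (e : G))
    by_cases h1 : e = Y
    · subst h1
      exact iff_of_false (fun h => h.1 rfl) fun h => hn h.2.symm
    by_cases h2 : e = Y'
    · subst h2
      exact iff_of_false (fun h => hn h.2) fun h => h.1 rfl
    have := hcon (e : G) he (fun h => h1 (Subtype.ext h)) (fun h => h2 (Subtype.ext h))
    exact ⟨fun h => ⟨h2, this.1 h.2⟩, fun h => ⟨h1, this.2 h.2⟩⟩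
  have hmem := hsame.mul_mem_pCore hET (show Y ∈ E from hy)
  have h3 : Cfsg.pCore 3 H ≤ Cfsg.oddCore H := by
    refine PBasic.le_pPrimeCore (Cfsg.pCore_normal 3 H) ?_
    obtain ⟨n, hn⟩ := (PBasic.pCore_isPGroup 3 H).exists_card_eq
    rw [hn]
    exact Nat.Coprime.pow_left n (by decide)
  have hz := Subgroup.mem_center_iff.1 (hO (h3 hmem)) Y
  have sY : Y * Y = 1 := Subtype.ext (TSet.sq hC.tg.1 hy.1)
  rw [← mul_assoc, sY, one_mul] at hz
  -- `Y' = Y * Y' * Y`
  have h4 : Y' * Y = Y * Y' := by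
    conv_lhs => rw [hz]
    rw [mul_assoc, sY, mul_one]
  exact hn (hcm.1 h4.symm)

theorem hyp_of_base [Finite G] (hC : Ctx D) {x : G} (hx : x ∈ D)
    (hs : Group.IsSolvable ↥(closure (nb D x)))
    (hO : Cfsg.oddCore ↥(closure (nb D x)) ≤ center ↥(closure (nb D x))) : Hyp D := by
  haveI := hs
  refine ⟨hC, ?_, ?_⟩
  · intro d hd p hp q hq r hr s hs' hpq hqr hrs hpr hps hqs
    obtain ⟨g, hg⟩ := hC.trans d hd x hx
    have e : ∀ {a : G}, a ∈ nb D d → g * a * g⁻¹ ∈ nb D x := fun ha => hg ▸ hC.nb_conj g ha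
    exact no_string hC (e hp) (e hq) (e hr) (e hs') (fun h => hpq ((commute_conj_iff g p q).1 h))
      (fun h => hqr ((commute_conj_iff g q r).1 h)) (fun h => hrs ((commute_conj_iff g r s).1 h))
      ((commute_conj_iff g p r).2 hpr) ((commute_conj_iff g p s).2 hps) ((commute_conj_iff g q s).2 hqs)
  · intro d hd y hy y' hy' hn
    obtain ⟨g, hg⟩ := hC.trans x hx d hd
    have e : ∀ {a : G}, a ∈ nb D d → g⁻¹ * a * g ∈ nb D x := by
      intro a ha
      rw [← hC.nb_conj_iff g, hg]
      rwa [show g * (g⁻¹ * a * g) * g⁻¹ = a by group]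
    have e2 : ∀ a b : G, Commute (g⁻¹ * a * g) (g⁻¹ * b * g) ↔ Commute a b := fun a b => by
      simpa using commute_conj_iff g⁻¹ a b
    obtain ⟨w, hw, h1, h2, h3⟩ := sep_at hC hO (e hy) (e hy') (fun h => hn ((e2 y y').1 h))
    refine ⟨g * w * g⁻¹, hg ▸ hC.nb_conj g hw, fun h => h1 ?_, fun h => h2 ?_, fun h => h3 ?_⟩
    · rw [← h]; group
    · rw [← h]; group
    · have e4 : g⁻¹ * (g * w * g⁻¹) * g = w := by group
      rw [← e4, e2, e2]
      exact h

/-- The class of `a` in the residue at `x` has a power of two many members. -/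
theorem card_class [Finite G] (hh : Hyp D) {x a : G} (hx : x ∈ D) (ha : a ∈ nb D x) :
    ∃ k, (insert a (X D x a)).ncard = 2 ^ k := by
  haveI : Fact (Nat.Prime 2) := ⟨Nat.prime_two⟩
  set H := closure (nb D x) with hH
  set E : Set H := {e | (e : G) ∈ nb D x} with hE
  have hEgen : closure E = ⊤ := closure_closure_coe_preimage
  have hEconj : ∀ g : H, ∀ e ∈ E, g * e * g⁻¹ ∈ E := fun g e he => by
    have := hh.ctx.nb_conj (g : G) he
    rwa [conj_eq_self_of_commute (OddCoreLocal.commute_of_mem_closure_nb g.2)] at this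
  set A : H := ⟨a, subset_closure ha⟩ with hA
  have hEtr : ∀ e ∈ E, ∃ g : H, g * A * g⁻¹ = e := fun e he => by
    obtain ⟨g, hg, hge⟩ := hh.ctx.trc x hx a ha (e : G) he
    exact ⟨⟨g, hg⟩, Subtype.ext hge⟩
  have hcm : ∀ {u v : H}, Commute u v ↔ Commute (u : G) (v : G) := fun {u v} =>
    ⟨fun h => congrArg Subtype.val h, fun h => Subtype.ext h⟩
  have hET : IsThreeTranspositionClass E := by
    refine ⟨⟨fun d hd => ?_, fun d hd e he => ?_⟩, ⟨A, ha, ?_⟩, hEgen⟩
    · rw [← Subgroup.orderOf_coe]; exact hh.ctx.tg.1.1 _ hd.1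
    · refine (hh.ctx.tg.1.2 _ hd.1 _ he.1).imp (fun h => ?_) (fun h => ?_) <;>
        exact Subtype.ext (by simpa using h)
    · ext e
      constructor
      · intro he
        obtain ⟨g, hg⟩ := hEtr e he
        exact isConj_iff.2 ⟨g, hg⟩
      · intro he
        obtain ⟨g, rfl⟩ := isConj_iff.1 he
        exact hEconj g A ha
  have hX' : ∀ v : G, v ∈ insert a (X D x a) ↔ v ∈ nb D x ∧ Commute a v := by
    intro v
    constructor
    · rintro (rfl | hv)
      exacts [⟨ha, Commute.refl _⟩, ⟨hv.1, hv.2.2.2⟩]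
    · rintro ⟨hv, hc⟩
      by_cases hva : v = a
      exacts [Or.inl hva, Or.inr ⟨hv, hv.1, hva, hc⟩]
  by_cases hX : (X D x a) = ∅
  · exact ⟨0, by rw [hX]; simp⟩
  obtain ⟨b, hb⟩ := Set.nonempty_iff_ne_empty.2 hX
  have hE2 : ∃ p ∈ E, ∃ q ∈ E, p ≠ q :=
    ⟨A, ha, ⟨b, subset_closure hb.1⟩, hb.1, fun h => hb.2.2.1 (congrArg Subtype.val h).symm⟩
  have hT := TClass.toGroup hET
  set O := Cfsg.pCore 2 H with hO
  haveI : O.Normal := Cfsg.pCore_normal 2 H
  set P := O.map (ConjAct.toConjAct (G := H)).toMonoidHom with hP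
  have hP2 : IsPGroup 2 P := (PBasic.pCore_isPGroup 2 H).map _
  have horb : Subtype.val '' MulAction.orbit P A = insert a (X D x a) := by
    ext v
    rw [hX']
    constructor
    · rintro ⟨_, ⟨⟨_, g, hg, rfl⟩, rfl⟩, rfl⟩
      have he : g * A * g⁻¹ ∈ E := hEconj g A ha
      have hm : A * (g * A * g⁻¹) ∈ O := by
        have := mul_conj_mem (N := O) (d := A) hg
        rwa [TSet.inv hT.1 (show A ∈ E from ha)] at this
      have hs := (sameComm_iff hT (show A ∈ E from ha)).2 ⟨he, hm⟩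
      show ((ConjAct.toConjAct g • A : H) : G) ∈ nb D x ∧ Commute a ((ConjAct.toConjAct g • A : H) : G)
      rw [ConjAct.toConjAct_smul]
      exact ⟨he, hcm.1 hs.commute⟩
    · rintro ⟨hv, hc⟩
      set V : H := ⟨v, subset_closure hv⟩ with hV
      have hs : SameComm E A V := by
        refine ⟨hv, fun e he => ?_⟩
        rw [hcm, hcm]
        exact ⟨fun h => hh.trans_nb hx ha hv he hc h, fun h => hh.trans_nb hx hv ha he hc.symm h⟩
      obtain ⟨g, hg, hge⟩ := hs.eq_conj hET hE2 (show A ∈ E from ha)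
      refine ⟨V, ⟨⟨ConjAct.toConjAct g, mem_map_of_mem _ hg⟩, ?_⟩, rfl⟩
      show (ConjAct.toConjAct g • A : H) = V
      rw [ConjAct.toConjAct_smul]
      exact hge.symm
  obtain ⟨k, hk⟩ := hP2.card_orbit A
  refine ⟨k, ?_⟩
  rw [← horb, Set.ncard_image_of_injective _ Subtype.val_injective, ← Nat.card_coe_set_eq, hk]

end Cfsg.Agent.FischerSolvable
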